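import Mathlib

/-!
Data for the normaliser of an elementary abelian subgroup of order sixteen.
-/

set_option autoImplicit false

namespace Cfsg.Agent.H52.JThree.Sixteen

/-- The codes of the elements of the subgroup. -/
def labTab : List ℕ := [0, 8, 16, 24, 96, 104, 112, 120, 256, 264, 272, 280, 320, 328, 336, 344]

/-- The maps induced inside the centraliser of `z`. -/
def stabList : List ℕ := [19489, 24353, 27937, 32289, 33825, 38689, 42273, 46625, 51233, 56097, 59681, 64033]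

/-- Witnesses against all but one candidate: kind and word. -/
def witTab : List (ℕ × List ℕ) :=
  [(0, [1]), (0, [1]), (0, [1]), (0, [1]),
   (0, [1]), (0, [1]), (0, [1]), (0, [1]),
   (0, [1]), (0, [1]), (0, [1]), (0, [1]),
   (0, [1]), (0, [1]), (0, [1]), (0, [1]),
   (0, [8]), (0, [9]), (0, [12]), (0, [13]),
   (0, [10]), (0, [11]), (0, [14]), (0, [15]),
   (1, [2, 1, 1, 2, 1, 2]), (2, [1, 2]), (1, [2, 2]), (1, [2, 2]),
   (1, [2, 2]), (1, [2, 2]), (1, [2, 1, 2, 1, 1, 2]), (1, [2, 1, 0, 2, 1, 2]),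
   (0, [5]), (0, [5]), (0, [5]), (0, [5]),
   (0, [5]), (0, [5]), (0, [5]), (0, [5]),
   (0, [5]), (0, [5]), (0, [5]), (0, [5]),
   (0, [5]), (0, [5]), (0, [5]), (0, [5]),
   (0, [8]), (0, [13]), (0, [12]), (0, [9]),
   (0, [10]), (0, [15]), (0, [14]), (0, [11]),
   (1, [2, 2]), (1, [2, 2]), (1, [2, 2]), (1, [2, 2]),
   (1, [2, 2]), (1, [2, 2]), (1, [2, 2]), (1, [2, 2]),
   (0, [3]), (0, [3]), (0, [3]), (0, [3]),
   (0, [3]), (0, [3]), (0, [3]), (0, [3]),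
   (0, [3]), (0, [3]), (0, [3]), (0, [3]),
   (0, [3]), (0, [3]), (0, [3]), (0, [3]),
   (0, [8]), (0, [11]), (0, [12]), (0, [15]),
   (0, [10]), (0, [9]), (0, [14]), (0, [13]),
   (1, [2, 2]), (1, [2, 2]), (1, [2, 2]), (1, [2, 2]),
   (1, [2, 2]), (1, [2, 2]), (1, [2, 2]), (1, [2, 2]),
   (0, [7]), (0, [7]), (0, [7]), (0, [7]),
   (0, [7]), (0, [7]), (0, [7]), (0, [7]),
   (0, [7]), (0, [7]), (0, [7]), (0, [7]),
   (0, [7]), (0, [7]), (0, [7]), (0, [7]),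
   (0, [8]), (0, [15]), (0, [12]), (0, [11]),
   (0, [10]), (0, [13]), (0, [14]), (0, [9]),
   (1, [2, 0, 2, 0, 2]), (1, [2, 2]), (1, [2, 2]), (1, [2, 1, 2, 1, 0, 2]),
   (1, [2, 2]), (2, [1, 2]), (1, [2, 0, 2, 0, 2]), (1, [2, 2]),
   (0, [8]), (1, [2, 0, 2, 0, 1, 2]), (0, [12]), (1, [2, 2]),
   (0, [10]), (1, [2, 2]), (0, [14]), (1, [2, 2]),
   (0, [9]), (1, [2, 2]), (0, [13]), (1, [2, 2]),
   (0, [11]), (1, [2, 2]), (0, [15]), (1, [2, 2]),
   (0, [8]), (1, [2, 2]), (0, [12]), (1, [2, 2]),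
   (0, [10]), (1, [2, 2]), (0, [14]), (1, [2, 2]),
   (1, [2, 1, 1, 2, 1, 2]), (0, [9]), (1, [2, 2]), (0, [13]),
   (1, [2, 2]), (0, [11]), (1, [2, 2]), (0, [15]),
   (0, [8]), (1, [2, 2]), (0, [12]), (1, [2, 2]),
   (0, [10]), (1, [2, 0, 2, 1, 2]), (0, [14]), (1, [2, 2]),
   (0, [13]), (1, [2, 2]), (0, [9]), (1, [2, 2]),
   (0, [15]), (1, [2, 2]), (0, [11]), (1, [2, 2]),
   (0, [8]), (1, [2, 2]), (0, [12]), (1, [2, 2]),
   (0, [10]), (1, [2, 2]), (0, [14]), (1, [2, 2]),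
   (1, [2, 2]), (0, [13]), (1, [2, 2]), (0, [9]),
   (1, [2, 2]), (0, [15]), (1, [2, 0, 2, 1, 0, 2]), (0, [11]),
   (0, [8]), (1, [2, 2]), (0, [12]), (3, []),
   (0, [10]), (1, [2, 2]), (0, [14]), (1, [2, 2]),
   (0, [11]), (1, [2, 2]), (0, [15]), (1, [2, 2]),
   (0, [9]), (1, [2, 2]), (0, [13]), (1, [2, 2]),
   (0, [8]), (1, [2, 2]), (0, [12]), (1, [2, 2]),
   (0, [10]), (1, [2, 2]), (0, [14]), (1, [2, 2]),
   (1, [2, 2]), (0, [11]), (1, [2, 2]), (0, [15]),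
   (1, [2, 2]), (0, [9]), (1, [2, 1, 0, 2, 0, 2]), (0, [13]),
   (0, [8]), (1, [2, 2]), (0, [12]), (1, [2, 2]),
   (0, [10]), (1, [2, 2]), (0, [14]), (1, [2, 1, 2, 0, 2]),
   (0, [15]), (1, [2, 2]), (0, [11]), (1, [2, 2]),
   (0, [13]), (1, [2, 2]), (0, [9]), (1, [2, 2]),
   (0, [8]), (1, [2, 2]), (0, [12]), (1, [2, 2]),
   (0, [10]), (1, [2, 2]), (0, [14]), (1, [2, 2]),
   (1, [2, 0, 1, 2, 0, 2]), (0, [15]), (1, [2, 2]), (0, [11]),
   (1, [2, 2]), (0, [13]), (1, [2, 2]), (0, [9])]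

/-- The elements of order three of the model. -/
def threeList : List ℕ :=
  [32, 35, 61, 62, 64, 77, 78, 83, 128, 131, 134, 149, 160, 166, 171, 173, 192, 197, 203, 222,
   224, 229, 243, 246, 288, 302, 309, 315, 352, 374, 379, 381, 480, 486, 492, 506, 576, 581, 588, 601,
   672, 684, 695, 699, 800, 803, 810, 825, 832, 842, 845, 855, 864, 874, 886, 892, 1152, 1161, 1175, 1182,
   1184, 1193, 1203, 1210, 1344, 1353, 1365, 1372, 1536, 1543, 1550, 1561, 1600, 1607, 1626, 1629, 1824, 1831, 1835, 1852]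

/-- The involutions of the model. -/
def invList : List ℕ :=
  [1, 2, 4, 8, 15, 16, 17, 18, 20, 24, 31, 96, 102, 104, 110, 112, 118, 120, 126, 256,
   261, 264, 269, 272, 277, 280, 285, 320, 323, 328, 331, 336, 339, 344, 347, 384, 386, 396, 398, 400,
   402, 412, 414, 416, 419, 428, 431, 432, 435, 444, 447, 448, 449, 460, 461, 464, 465, 476, 477, 768,
   772, 778, 782, 784, 788, 794, 798, 960, 965, 970, 975, 976, 981, 986, 991, 1056, 1057, 1066, 1067, 1072,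
   1073, 1082, 1083, 1216, 1220, 1225, 1229, 1232, 1236, 1241, 1245, 1248, 1254, 1257, 1263, 1264, 1270, 1273, 1279, 1440,
   1442, 1449, 1451, 1456, 1458, 1465, 1467, 1568, 1571, 1572, 1575, 1584, 1587, 1588, 1591, 1632, 1633, 1638, 1639, 1648,
   1649, 1654, 1655, 1728, 1730, 1733, 1735, 1744, 1746, 1749, 1751]

end Cfsg.Agent.H52.JThree.Sixteen
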