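import Cfsg.Agent.H52.JThree.Checks
import Cfsg.Agent.H52.JThree.L16.Data

/-!
Linear maps of a space of dimension four over the field of two elements, coded as numbers, and the
checks on the model that go with them.
-/

set_option autoImplicit false
set_option maxRecDepth 100000
set_option synthInstance.maxSize 4000

namespace Cfsg.Agent.H52.JThree.Sixteen

open Code

/-- The image of a vector. -/
def app (M x : ℕ) : ℕ :=
  Nat.xor (Nat.xor (x % 2 * (M % 16)) (x / 2 % 2 * (M / 16 % 16)))
    (Nat.xor (x / 4 % 2 * (M / 256 % 16)) (x / 8 % 2 * (M / 4096 % 16)))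

/-- The composite. -/
def comp (M N : ℕ) : ℕ :=
  app M (app N 1) + 16 * app M (app N 2) + 256 * app M (app N 4) + 4096 * app M (app N 8)

/-- The identity map. -/
def idM : ℕ := 33825

/-- Powers. -/
def powM (M : ℕ) : ℕ → ℕ
  | 0 => idM
  | n + 1 => comp (powM M n) M

/-- The candidate map with the two free images. -/
def cand (a b : ℕ) : ℕ := a + 16 * 4 + 256 * 2 + 4096 * b

/-- The generators. -/
def genM (f : ℕ) : ℕ → ℕ
  | 0 => 42273
  | 1 => 51233
  | _ => f

/-- The value of a word. -/
def wordM (f : ℕ) (w : List ℕ) : ℕ := w.foldl (fun acc k => comp acc (genM f k)) idM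

/-- The code of an element. -/
def lab (x : ℕ) : ℕ := labTab.getD x 0

/-- Conjugation of codes. -/
def cj (i j : ℕ) : ℕ := Code.mul (Code.mul i j) (Code.inv i)

/-- The position of a code in the subgroup. -/
def labIdx (c : ℕ) : ℕ := labTab.idxOf c

/-- A map coded by the action of an element. -/
def actM (i : ℕ) : ℕ :=
  labIdx (cj i (lab 1)) + 16 * labIdx (cj i (lab 2)) + 256 * labIdx (cj i (lab 4)) +
    4096 * labIdx (cj i (lab 8))

/-- The check of one candidate. -/
def witOK (a b : ℕ) : Bool :=
  let e := witTab.getD (16 * a + b) (0, [])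
  match e.1 with
  | 0 => match e.2 with
    | [v] => Nat.blt 0 v && Nat.blt v 16 && Nat.beq (app (cand a b) v) 0
    | _ => false
  | 1 => let W := wordM (cand a b) e.2
    Nat.beq (app W 2) 2 && !stabList.any (Nat.beq W)
  | 2 => let W := wordM (cand a b) e.2
    Nat.beq (powM W 7) idM && !Nat.beq (powM W 2) idM &&
      (List.range 16).any fun p => Nat.blt 0 p && Nat.beq (app W p) p
  | _ => Nat.beq a 12 && Nat.beq b 3

theorem wit_all : ((List.range 16).all fun a => (List.range 16).all fun b => witOK a b) = true := by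
  decide +kernel

theorem lab_lt : ∀ x < 16, lab x < 1920 := by decide +kernel

theorem lab_inj : ∀ x < 16, ∀ y < 16, lab x = lab y → x = y := by decide +kernel

theorem lab_xor : ∀ x < 16, ∀ y < 16, lab (Nat.xor x y) = Code.mul (lab x) (lab y) := by decide +kernel

theorem lab_idx : ∀ x < 16, labIdx (lab x) = x := by decide +kernel

theorem lab_vals : lab 0 = 0 ∧ lab 2 = 16 ∧ lab 4 = 96 ∧ cls 96 = 9 ∧ cls 16 = 1 := by decide +kernel

theorem lab_sq : ∀ x < 16, x ≠ 0 → Code.mul (lab x) (lab x) = 0 ∧ lab x ≠ 0 := by decide +kernel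

/-- The elements of `C(z)` commuting with the chosen involution. -/
theorem cen_check : ((List.range 1920).all fun i =>
    cond (Nat.beq (Code.mul i 96) (Code.mul 96 i)) (labTab.any (Nat.beq i)) true) = true := by decide +kernel

/-- Elements of `C(z)` normalising the subgroup. -/
theorem stab_check : ((List.range 1920).all fun i =>
    cond (labTab.any (Nat.beq (cj i (lab 1))) && labTab.any (Nat.beq (cj i (lab 2))) &&
      labTab.any (Nat.beq (cj i (lab 4))) && labTab.any (Nat.beq (cj i (lab 8))))
      (stabList.any (Nat.beq (actM i))) true) = true := by decide +kernel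

/-- Second involutions with elementary abelian centraliser in `C(z)`. -/
theorem nine_check : (invList.all fun i =>
    Nat.beq i 16 || Nat.beq (cls i) 9 ||
      (List.range 1920).any fun j => Nat.beq (Code.mul i j) (Code.mul j i) &&
        !Nat.beq (Code.mul j j) 0) = true := by decide +kernel

theorem inv_list_check : ((List.range 1920).all fun i =>
    cond (Nat.beq (Code.mul i i) 0) (Nat.beq i 0 || invList.any (Nat.beq i)) true) = true := by decide +kernel

theorem three_list_check : ((List.range 1920).all fun i =>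
    cond (Nat.beq (Code.mul (Code.mul i i) i) 0) (Nat.beq i 0 || threeList.any (Nat.beq i)) true) = true := by
  decide +kernel

/-- The two generators inside the centraliser. -/
theorem gen_check : (5 < 1920 ∧ ∀ x < 16, cj 5 (lab x) = lab (app 42273 x)) ∧
    (32 < 1920 ∧ ∀ x < 16, cj 32 (lab x) = lab (app 51233 x)) := by decide +kernel

theorem idM_app : ∀ x < 16, app idM x = x := by decide +kernel

/-- The chosen map of order fifteen. -/
def hM : ℕ := 12965

/-- The chosen involution. -/
def sM : ℕ := 42273

theorem hM_word : wordM (cand 12 3) [0, 1, 2] = hM := by decide +kernel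

theorem hM_facts : powM hM 15 = idM ∧ powM hM 16 = hM ∧ comp sM (comp hM sM) = powM hM 4 ∧
    comp sM sM = idM ∧ (∀ x < 16, app hM x = x → x = 0) ∧ sM ≠ idM ∧
    (∀ p < 4, app sM p = p) ∧ (∀ v < 16, ∃ y < 16, Nat.xor y (app (powM hM 4) y) = v) := by decide +kernel

/-- The labelling seen from `p`. -/
def orbM (p : ℕ) : ℕ := p + 16 * app hM p + 256 * app hM (app hM p) + 4096 * app hM (app hM (app hM p))

/-- Multiplication by the root of `X ^ 4 + X + 1`. -/
def mA (a : ℕ) : ℕ := Nat.xor (2 * a % 16) (a / 8 * 3)

theorem orbM_facts : ∀ p < 4, p ≠ 0 → (app (orbM p) 1 = p) ∧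
    (∀ a < 16, app (orbM p) (mA a) = app hM (app (orbM p) a)) ∧
    (∀ a < 16, ∀ b < 16, app (orbM p) (Nat.xor a b) = Nat.xor (app (orbM p) a) (app (orbM p) b)) ∧
    (∀ a < 16, ∀ b < 16, app (orbM p) a = app (orbM p) b → a = b) := by decide +kernel

/-- The three images of the fixed involution. -/
theorem orbit_five : app (powM hM 5) 1 < 4 ∧ app (powM hM 5) 1 ≠ 0 ∧ app (powM hM 5) 1 ≠ 1 := by
  decide +kernel

/-- The key condition inside a centraliser of an involution. -/
def relOK (i a : ℕ) : Bool :=
  let b := cj i a
  let ab := Code.mul a b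
  cond (!Nat.beq a 16 && !Nat.beq b 16 && Nat.beq (Code.mul b a) ab && Nat.beq (cj i b) ab &&
      !Nat.beq ab 16)
    (invList.all fun s => cond (Nat.beq (cj s i) (Code.inv i))
      ([0, i, Code.mul i i].any fun j => [0, 16].any fun e => [a, b, ab].any fun v =>
        let m := Code.mul v (Code.mul j (Code.mul e s))
        Nat.beq (Code.mul (Code.mul m m) m) 0) true)
    true

theorem rel_check : (threeList.all fun i => invList.all fun a => relOK i a) = true := by decide +kernel

/-- Five-elements have centraliser of order ten. -/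
theorem five_cen : ∀ c ∈ [12, 14], ((List.range 1920).all fun j =>
    cond (Nat.beq (Code.mul j (rep c)) (Code.mul (rep c) j))
      (Nat.beq (powN j 10) 0 && cond (Nat.beq (Code.mul j j) 0) (Nat.beq j 0 || Nat.beq j 16) true) true) = true := by
  decide +kernel

theorem five_cls : ((List.range 1920).all fun i =>
    cond (Nat.beq (powN i 5) 0) (Nat.beq i 0 || Nat.beq (cls i) 12 || Nat.beq (cls i) 14) true) = true ∧
    powN 512 5 = 0 ∧ (512 : ℕ) ≠ 0 := by
  decide +kernel

end Cfsg.Agent.H52.JThree.Sixteen
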