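import Mathlib
import Cfsg.Agent.H52.JThree.L16.Maps

/-!
The field of sixteen elements on the numbers below sixteen.
-/

set_option autoImplicit false
set_option maxRecDepth 100000

namespace Cfsg.Agent.H52.JThree.Sixteen

/-- The field with sixteen elements. -/
structure K16 : Type where
  val : Fin 16
deriving DecidableEq

namespace K16

/-- The numbers and the elements. -/
def equiv : K16 ≃ Fin 16 := ⟨val, mk, fun _ => rfl, fun _ => rfl⟩

instance : Fintype K16 := Fintype.ofEquiv _ equiv.symm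

theorem card : Fintype.card K16 = 16 := by rw [Fintype.card_congr equiv, Fintype.card_fin]

/-- The element of a number. -/
def mk' (n : ℕ) : K16 := ⟨Fin.ofNat 16 n⟩

instance : Zero K16 := ⟨⟨0⟩⟩
instance : One K16 := ⟨⟨1⟩⟩
instance : Add K16 := ⟨fun a b => mk' (Nat.xor a.val b.val)⟩
instance : Neg K16 := ⟨fun a => a⟩

/-- The product of numbers. -/
def mulN (a b : ℕ) : ℕ :=
  Nat.xor (Nat.xor (b % 2 * a) (b / 2 % 2 * mA a))
    (Nat.xor (b / 4 % 2 * mA (mA a)) (b / 8 % 2 * mA (mA (mA a))))

instance : Mul K16 := ⟨fun a b => mk' (mulN a.val b.val)⟩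

/-- The table of inverses. -/
def invTab16 : List ℕ := [0, 1, 9, 14, 13, 11, 7, 6, 15, 2, 12, 5, 10, 4, 3, 8]

instance : Inv K16 := ⟨fun a => mk' (invTab16.getD a.val 0)⟩

theorem forall_iff {p : K16 → Prop} : (∀ a, p a) ↔ ∀ a : Fin 16, p ⟨a⟩ :=
  ⟨fun h a => h ⟨a⟩, fun h a => h a.val⟩

instance : Field K16 := Field.ofMinimalAxioms K16
  (by decide +kernel) (by decide +kernel) (by decide +kernel) (by decide +kernel) (by decide +kernel)
  (by decide +kernel) (by decide +kernel) (by decide +kernel) (by decide +kernel) ⟨0, 1, by decide⟩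

/-- A primitive element. -/
def root : K16 := ⟨2⟩

/-- The powers of the primitive element, by repeated multiplication. -/
def pw : ℕ → K16
  | 0 => 1
  | n + 1 => pw n * root

theorem pow_eq_pw : ∀ n : ℕ, root ^ n = pw n
  | 0 => pow_zero _
  | n + 1 => by rw [pow_succ, pw, pow_eq_pw n]

theorem root_facts : pw 15 = 1 ∧ (∀ n < 15, 0 < n → pw n ≠ 1) ∧
    (∀ a : K16, a ≠ 0 → ∃ j < 15, pw j = a) ∧ (∀ a : K16, a + a = 0) := by decide +kernel

theorem mA_root : ∀ a : K16, ((root * a).val : ℕ) = mA (a.val : ℕ) := by decide +kernel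

theorem val_add : ∀ a b : K16, ((a + b).val : ℕ) = Nat.xor a.val b.val := by decide +kernel

end K16

end Cfsg.Agent.H52.JThree.Sixteen
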