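import Cfsg.Agent.H52.JThree.Sylow
import Cfsg.Agent.H52.JThree.L16.Maps

/-!
The normaliser of an elementary abelian subgroup of order sixteen in a group of J₃ type: it contains
an element of order fifteen acting regularly, and an involution inducing the automorphism of order two
of the field of sixteen elements over the field of four elements.
-/

set_option autoImplicit false
set_option maxRecDepth 10000
set_option linter.style.haveILetI false
set_option linter.unusedSectionVars false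
set_option synthInstance.maxSize 4000

namespace Cfsg.Agent.H52.JThree.Sixteen

open Code

theorem xor_lt {a b : ℕ} (ha : a < 16) (hb : b < 16) : Nat.xor a b < 16 :=
  Nat.xor_lt_two_pow (n := 4) (by simpa using ha) (by simpa using hb)

theorem app_lt (M x : ℕ) : app M x < 16 := by
  have h : ∀ e y : ℕ, e % 2 * (y % 16) < 16 := fun e y => by
    rcases Nat.mod_two_eq_zero_or_one e with he | he <;> rw [he]
    · omega
    · rw [one_mul]; exact Nat.mod_lt _ (by norm_num)
  exact xor_lt (xor_lt (h x M) (h (x / 2) (M / 16))) (xor_lt (h (x / 4) (M / 256)) (h (x / 8) (M / 4096)))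

theorem app_basis (M : ℕ) : app M 1 = M % 16 ∧ app M 2 = M / 16 % 16 ∧ app M 4 = M / 256 % 16 ∧
    app M 8 = M / 4096 % 16 := by
  have hx : ∀ n : ℕ, Nat.xor 0 n = n ∧ Nat.xor n 0 = n := fun n => ⟨Nat.zero_xor n, Nat.xor_zero n⟩
  simp [app, hx]

theorem app_zero (M : ℕ) : app M 0 = 0 := by
  simp [app, show Nat.xor 0 0 = 0 from rfl]

theorem app_comp_basis (M N : ℕ) {e : ℕ} (he : e ∈ [1, 2, 4, 8]) :
    app (comp M N) e = app M (app N e) := by
  have := app_lt M (app N 1); have := app_lt M (app N 2); have := app_lt M (app N 4); have := app_lt M (app N 8)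
  obtain ⟨h1, h2, h4, h8⟩ := app_basis (comp M N)
  simp only [List.mem_cons, List.not_mem_nil, or_false] at he
  rcases he with rfl | rfl | rfl | rfl
  · rw [h1, comp]; omega
  · rw [h2, comp]; omega
  · rw [h4, comp]; omega
  · rw [h8, comp]; omega

theorem comp_lt (M N : ℕ) : comp M N < 65536 := by
  have := app_lt M (app N 1); have := app_lt M (app N 2); have := app_lt M (app N 4); have := app_lt M (app N 8)
  rw [comp]; omega

theorem code_ext {M N : ℕ} (hM : M < 65536) (hN : N < 65536)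
    (h : ∀ e ∈ [1, 2, 4, 8], app M e = app N e) : M = N := by
  obtain ⟨a1, a2, a4, a8⟩ := app_basis M
  obtain ⟨b1, b2, b4, b8⟩ := app_basis N
  have := h 1 (by simp); have := h 2 (by simp); have := h 4 (by simp); have := h 8 (by simp)
  omega

variable {G : Type*} [Group G] (F : Frame G)

/-- The elements of the subgroup. -/
def P (x : ℕ) : G := F.φ (lab x)

theorem P_zero : P F 0 = 1 := by rw [P, lab_vals.1]; exact F.map_zero

theorem P_two : P F 2 = F.z := by rw [P, lab_vals.2.1]; exact F.map_z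

theorem P_xor {x y : ℕ} (hx : x < 16) (hy : y < 16) : P F (Nat.xor x y) = P F x * P F y := by
  rw [P, lab_xor x hx y hy, F.map_mul (lab_lt x hx) (lab_lt y hy)]; rfl

theorem P_inj {x y : ℕ} (hx : x < 16) (hy : y < 16) (h : P F x = P F y) : x = y :=
  lab_inj x hx y hy (F.inj (lab_lt x hx) (lab_lt y hy) h)

theorem P_comm {x y : ℕ} (hx : x < 16) (hy : y < 16) : P F x * P F y = P F y * P F x := by
  rw [← P_xor F hx hy, ← P_xor F hy hx]
  exact congrArg (P F) (Nat.xor_comm x y)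

theorem P_sq {x : ℕ} (hx : x < 16) : P F x * P F x = 1 := by
  rw [← P_xor F hx hx, show Nat.xor x x = 0 from Nat.xor_self x, P_zero]

theorem P_inv {x : ℕ} (hx : x < 16) : (P F x)⁻¹ = P F x := inv_eq_of_mul_eq_one_right (P_sq F hx)

theorem mem_U {c : G} (hc : c * F.z = F.z * c) (hu : c * P F 4 = P F 4 * c) : ∃ x < 16, c = P F x := by
  obtain ⟨i, hi, rfl⟩ := (F.mem c).mp hc
  rw [P, lab_vals.2.2.1] at hu
  have he : Code.mul i 96 = Code.mul 96 i := F.inj (Code.mul_lt hi (by norm_num))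
    (Code.mul_lt (by norm_num) hi) (by rw [F.map_mul hi (by norm_num), F.map_mul (by norm_num) hi, hu])
  have h := List.all_eq_true.mp cen_check i (List.mem_range.mpr hi)
  rw [he, Nat.beq_refl, cond_true] at h
  obtain ⟨c', hc', he'⟩ := List.any_eq_true.mp h
  obtain ⟨k, hk, hke⟩ := List.getElem_of_mem hc'
  refine ⟨k, by simpa [labTab] using hk, ?_⟩
  rw [P, lab, List.getD_eq_getElem _ _ hk, hke, Nat.eq_of_beq_eq_true he']

/-- The element induces the map. -/
def Real (M : ℕ) (g : G) : Prop := ∀ x < 16, g * P F x * g⁻¹ = P F (app M x)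

theorem real_of_basis {M : ℕ} {g : G} (h : ∀ e ∈ [1, 2, 4, 8], g * P F e * g⁻¹ = P F (app M e)) :
    Real F M g := by
  intro x hx
  obtain ⟨h1, h2, h4, h8⟩ := app_basis M
  have key : ∀ e ∈ [1, 2, 4, 8], ∀ b : ℕ,
      g * P F (b % 2 * e) * g⁻¹ = P F (b % 2 * app M e) := by
    intro e he b
    rcases Nat.mod_two_eq_zero_or_one b with hb | hb <;> rw [hb]
    · simp [P_zero]
    · rw [one_mul, one_mul]; exact h e he
  have hl : ∀ b e : ℕ, e < 16 → b % 2 * e < 16 := fun b e he => by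
    rcases Nat.mod_two_eq_zero_or_one b with hb | hb <;> rw [hb] <;> omega
  have hdec : ∀ x < 16, x = Nat.xor (Nat.xor (x % 2 * 1) (x / 2 % 2 * 2))
      (Nat.xor (x / 4 % 2 * 4) (x / 8 % 2 * 8)) := by decide
  have hm : ∀ y, y % 16 < 16 := fun y => Nat.mod_lt _ (by norm_num)
  conv_lhs => rw [hdec x hx]
  rw [P_xor F (xor_lt (hl _ _ (by norm_num)) (hl _ _ (by norm_num)))
      (xor_lt (hl _ _ (by norm_num)) (hl _ _ (by norm_num))),
    P_xor F (hl _ _ (by norm_num)) (hl _ _ (by norm_num)),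
    P_xor F (hl _ _ (by norm_num)) (hl _ _ (by norm_num))]
  rw [app, P_xor F (xor_lt (hl _ _ (hm _)) (hl _ _ (hm _))) (xor_lt (hl _ _ (hm _)) (hl _ _ (hm _))),
    P_xor F (hl _ _ (hm _)) (hl _ _ (hm _)), P_xor F (hl _ _ (hm _)) (hl _ _ (hm _))]
  have e1 := key 1 (by simp) x
  have e2 := key 2 (by simp) (x / 2)
  have e4 := key 4 (by simp) (x / 4)
  have e8 := key 8 (by simp) (x / 8)
  rw [h1] at e1; rw [h2] at e2; rw [h4] at e4; rw [h8] at e8
  rw [← e1, ← e2, ← e4, ← e8]
  group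

theorem real_comp {M N : ℕ} {g k : G} (hg : Real F M g) (hk : Real F N k) : Real F (comp M N) (g * k) := by
  refine real_of_basis F fun e he => ?_
  have he16 : e < 16 := by
    simp only [List.mem_cons, List.not_mem_nil, or_false] at he; omega
  rw [app_comp_basis M N he, ← hg _ (app_lt N e), ← hk e he16]
  group

theorem real_one : Real F idM 1 := fun x hx => by rw [idM_app x hx]; group

theorem real_pow {M : ℕ} {g : G} (hg : Real F M g) : ∀ n, Real F (powM M n) (g ^ n)
  | 0 => by rw [powM, pow_zero]; exact real_one F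
  | n + 1 => by rw [powM, pow_succ]; exact real_comp F (real_pow hg n) hg

theorem real_ext {M N : ℕ} {g : G} (hM : Real F M g) (hN : Real F N g) {x : ℕ} (hx : x < 16) :
    app M x = app N x :=
  P_inj F (app_lt M x) (app_lt N x) ((hM x hx).symm.trans (hN x hx))

/-- An element inducing the identity lies in the subgroup. -/
theorem real_id {g : G} (hg : Real F idM g) : ∃ x < 16, g = P F x := by
  have h2 := hg 2 (by norm_num)
  rw [idM_app 2 (by norm_num), P_two] at h2
  have h4 := hg 4 (by norm_num)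
  rw [idM_app 4 (by norm_num)] at h4
  exact mem_U F (mul_inv_eq_iff_eq_mul.mp h2) (mul_inv_eq_iff_eq_mul.mp h4)

theorem real_gen (k : ℕ) (hk : k < 2) : ∃ g : G, g * F.z = F.z * g ∧ Real F (genM 0 k) g := by
  obtain ⟨⟨h5, e5⟩, h32, e32⟩ := gen_check
  rcases (show k = 0 ∨ k = 1 by omega) with rfl | rfl
  · refine ⟨F.φ 5, F.comm_z h5, fun x hx => ?_⟩
    show F.φ 5 * F.φ (lab x) * (F.φ 5)⁻¹ = F.φ (lab (app 42273 x))
    rw [← e5 x hx, cj, F.conj_code h5 (lab_lt x hx)]
  · refine ⟨F.φ 32, F.comm_z h32, fun x hx => ?_⟩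
    show F.φ 32 * F.φ (lab x) * (F.φ 32)⁻¹ = F.φ (lab (app 51233 x))
    rw [← e32 x hx, cj, F.conj_code h32 (lab_lt x hx)]

theorem real_word {f : ℕ} {g : G} (hg : Real F f g) (w : List ℕ) : ∃ m : G, Real F (wordM f w) m := by
  suffices h : ∀ (acc : ℕ) (m : G), Real F acc m →
      ∃ m' : G, Real F (w.foldl (fun acc k => comp acc (genM f k)) acc) m' from h _ _ (real_one F)
  induction w with
  | nil => exact fun acc m hm => ⟨m, hm⟩
  | cons k w ih =>
    intro acc m hm
    obtain ⟨g', hg'⟩ : ∃ g', Real F (genM f k) g' := by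
      match k with
      | 0 => obtain ⟨g', -, h⟩ := real_gen F 0 (by norm_num); exact ⟨g', h⟩
      | 1 => obtain ⟨g', -, h⟩ := real_gen F 1 (by norm_num); exact ⟨g', h⟩
      | k + 2 => exact ⟨g, hg⟩
    exact ih _ _ (real_comp F hm hg')

theorem labIdx_mem {c : ℕ} (h : labTab.any (Nat.beq c) = true) : labIdx c < 16 ∧ lab (labIdx c) = c := by
  obtain ⟨c', hc', he⟩ := List.any_eq_true.mp h
  obtain rfl := Nat.eq_of_beq_eq_true he
  have hlt : labTab.idxOf c < labTab.length := List.idxOf_lt_length_iff.mpr hc'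
  refine ⟨by simpa [labIdx, labTab] using hlt, ?_⟩
  rw [lab, labIdx, List.getD_eq_getElem _ _ hlt, List.getElem_idxOf hlt]

theorem stab_mem {W : ℕ} (hW : W < 65536) {g : G} (hg : Real F W g) (h2 : app W 2 = 2) :
    stabList.any (Nat.beq W) = true := by
  have hgz : g * F.z = F.z * g := by
    have := hg 2 (by norm_num)
    rw [h2, P_two] at this
    exact mul_inv_eq_iff_eq_mul.mp this
  obtain ⟨i, hi, rfl⟩ := (F.mem g).mp hgz
  have hc : ∀ e < 16, cj i (lab e) = lab (app W e) := fun e he => by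
    refine F.inj (Code.mul_lt (Code.mul_lt hi (lab_lt e he)) (inv_lt hi)) (lab_lt _ (app_lt W e)) ?_
    rw [cj, F.conj_code hi (lab_lt e he)]
    exact hg e he
  have hm : ∀ x < 16, labTab.any (Nat.beq (lab x)) = true := by decide +kernel
  have h := List.all_eq_true.mp stab_check i (List.mem_range.mpr hi)
  rw [hc 1 (by norm_num), hc 2 (by norm_num), hc 4 (by norm_num), hc 8 (by norm_num),
    hm _ (app_lt W 1), hm _ (app_lt W 2), hm _ (app_lt W 4), hm _ (app_lt W 8)] at h
  simp only [Bool.and_self, cond_true] at h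
  have e : actM i = W := by
    obtain ⟨a1, a2, a4, a8⟩ := app_basis W
    rw [actM, hc 1 (by norm_num), hc 2 (by norm_num), hc 4 (by norm_num), hc 8 (by norm_num),
      lab_idx _ (app_lt W 1), lab_idx _ (app_lt W 2), lab_idx _ (app_lt W 4), lab_idx _ (app_lt W 8)]
    omega
  rwa [e] at h

/-- An element exchanging the two basic involutions. -/
theorem exists_swap [Finite G] : ∃ (g : G) (a b : ℕ), a < 16 ∧ b < 16 ∧ Real F (cand a b) g := by
  have hu : orderOf (P F 4) = 2 := orderOf_eq_prime (by rw [pow_two]; exact P_sq F (by norm_num))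
    (fun h => by have := P_inj F (x := 4) (y := 0) (by norm_num) (by norm_num) (h.trans (P_zero F).symm); omega)
  obtain ⟨g₀, hg₀⟩ := isConj_iff.mp (F.hone _ F.z hu F.hz)
  set v := g₀ * F.z * g₀⁻¹ with hv
  have hzu : F.z * P F 4 = P F 4 * F.z := by
    rw [← P_two F]; exact P_comm F (by norm_num) (by norm_num)
  have hvz : v * F.z = F.z * v := by
    calc v * F.z = g₀ * F.z * g₀⁻¹ * (g₀ * P F 4 * g₀⁻¹) := by rw [hg₀, hv]
      _ = g₀ * (F.z * P F 4) * g₀⁻¹ := by group
      _ = g₀ * (P F 4 * F.z) * g₀⁻¹ := by rw [hzu]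
      _ = g₀ * P F 4 * g₀⁻¹ * (g₀ * F.z * g₀⁻¹) := by group
      _ = F.z * v := by rw [hg₀, hv]
  obtain ⟨i, hi, hiv⟩ := (F.mem v).mp hvz
  have hzz : F.z * F.z = 1 := by rw [← pow_two, ← F.hz]; exact pow_orderOf_eq_one _
  have hz1 : F.z ≠ 1 := fun h => by have := F.hz; rw [h, orderOf_one] at this; norm_num at this
  have hii : Code.mul i i = 0 := F.inj (Code.mul_lt hi hi) (by norm_num) (by
    rw [F.map_mul hi hi, F.map_zero, hiv, hv,
      show g₀ * F.z * g₀⁻¹ * (g₀ * F.z * g₀⁻¹) = g₀ * (F.z * F.z) * g₀⁻¹ by group, hzz]; group)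
  have hi0 : i ≠ 0 := fun h => hz1 (by
    rw [h, F.map_zero, hv] at hiv
    exact conj_eq_one_iff.mp hiv.symm)
  have hmem : i ∈ invList := by
    have h := List.all_eq_true.mp inv_list_check i (List.mem_range.mpr hi)
    simp only [hii, Nat.beq_refl, cond_true, Bool.or_eq_true] at h
    rcases h with h | h
    · exact absurd (Nat.eq_of_beq_eq_true h) hi0
    · obtain ⟨j, hj, he⟩ := List.any_eq_true.mp h
      exact Nat.eq_of_beq_eq_true he ▸ hj
  have hne : i ≠ 16 := fun h => by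
    rw [h, F.map_z] at hiv
    have h' : g₀ * F.z * g₀⁻¹ = g₀ * P F 4 * g₀⁻¹ := by rw [hg₀, ← hv, ← hiv]
    rw [mul_left_inj, mul_right_inj, ← P_two F] at h'
    have := P_inj F (x := 2) (y := 4) (by norm_num) (by norm_num) h'
    omega
  have h9 : cls i = 9 := by
    have h := List.all_eq_true.mp nine_check i hmem
    simp only [Bool.or_eq_true] at h
    rcases h with (h | h) | h
    · exact absurd (Nat.eq_of_beq_eq_true h) hne
    · exact Nat.eq_of_beq_eq_true h
    · exfalso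
      obtain ⟨j, hj, he⟩ := List.any_eq_true.mp h
      simp only [Bool.and_eq_true] at he
      obtain ⟨he1, he2⟩ := he
      have hj' := List.mem_range.mp hj
      have hjv : F.φ j * v = v * F.φ j := by
        rw [← hiv, ← F.map_mul hj' hi, ← F.map_mul hi hj', Nat.eq_of_beq_eq_true he1]
      obtain ⟨x, hx, hxe⟩ := mem_U F (c := g₀⁻¹ * F.φ j * g₀) (by
          calc g₀⁻¹ * F.φ j * g₀ * F.z = g₀⁻¹ * (F.φ j * v) * g₀ := by rw [hv]; group
            _ = g₀⁻¹ * (v * F.φ j) * g₀ := by rw [hjv]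
            _ = _ := by rw [hv]; group)
        (by
          calc g₀⁻¹ * F.φ j * g₀ * P F 4 = g₀⁻¹ * (F.φ j * (g₀ * P F 4 * g₀⁻¹)) * g₀ := by group
            _ = g₀⁻¹ * (g₀ * P F 4 * g₀⁻¹ * F.φ j) * g₀ := by rw [hg₀, F.comm_z hj']
            _ = _ := by group)
      have hjj : F.φ j * F.φ j = 1 := by
        have hs : g₀⁻¹ * F.φ j * g₀ * (g₀⁻¹ * F.φ j * g₀) = 1 := by rw [hxe]; exact P_sq F hx
        calc F.φ j * F.φ j = g₀ * (g₀⁻¹ * F.φ j * g₀ * (g₀⁻¹ * F.φ j * g₀)) * g₀⁻¹ := by group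
          _ = 1 := by rw [hs]; group
      rw [← F.map_mul hj' hj', ← F.map_zero] at hjj
      rw [F.inj (Code.mul_lt hj' hj') (by norm_num) hjj] at he2
      simp at he2
  obtain ⟨y₁, hy₁, e₁⟩ := F.exists_conj_rep hi
  obtain ⟨y₂, hy₂, e₂⟩ := F.exists_conj_rep (i := 96) (by norm_num)
  rw [h9] at e₁
  rw [lab_vals.2.2.2.1] at e₂
  set g := y₂ * y₁⁻¹ * g₀ with hg
  have hy : y₂ * y₁⁻¹ * F.z = F.z * (y₂ * y₁⁻¹) :=
    Commute.mul_left (show Commute y₂ F.z from hy₂) (Commute.inv_left (show Commute y₁ F.z from hy₁))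
  have hgu : g * P F 4 * g⁻¹ = F.z := by
    rw [hg, show y₂ * y₁⁻¹ * g₀ * P F 4 * (y₂ * y₁⁻¹ * g₀)⁻¹ =
      y₂ * y₁⁻¹ * (g₀ * P F 4 * g₀⁻¹) * (y₂ * y₁⁻¹)⁻¹ by group, hg₀, hy]
    group
  have hgz : g * F.z * g⁻¹ = P F 4 := by
    rw [hg, show y₂ * y₁⁻¹ * g₀ * F.z * (y₂ * y₁⁻¹ * g₀)⁻¹ =
      y₂ * (y₁⁻¹ * (g₀ * F.z * g₀⁻¹) * y₁) * y₂⁻¹ by group, ← hv, ← hiv, ← e₁]
    rw [show P F 4 = F.φ 96 by rw [P, lab_vals.2.2.1], ← e₂]
    group
  have hmap : ∀ x < 16, ∃ y < 16, g * P F x * g⁻¹ = P F y := by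
    intro x hx
    refine mem_U F ?_ ?_
    · rw [← hgu]
      calc g * P F x * g⁻¹ * (g * P F 4 * g⁻¹) = g * (P F x * P F 4) * g⁻¹ := by group
        _ = g * (P F 4 * P F x) * g⁻¹ := by rw [P_comm F hx (by norm_num)]
        _ = _ := by group
    · rw [← hgz, ← P_two F]
      calc g * P F x * g⁻¹ * (g * P F 2 * g⁻¹) = g * (P F x * P F 2) * g⁻¹ := by group
        _ = g * (P F 2 * P F x) * g⁻¹ := by rw [P_comm F hx (by norm_num)]
        _ = _ := by group
  obtain ⟨a, ha, hea⟩ := hmap 1 (by norm_num)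
  obtain ⟨b, hb, heb⟩ := hmap 8 (by norm_num)
  refine ⟨g, a, b, ha, hb, real_of_basis F fun e he => ?_⟩
  obtain ⟨c1, c2, c4, c8⟩ := app_basis (cand a b)
  simp only [List.mem_cons, List.not_mem_nil, or_false] at he
  rcases he with rfl | rfl | rfl | rfl
  · rw [c1, hea, show cand a b % 16 = a by rw [cand]; omega]
  · rw [c2, show cand a b / 16 % 16 = 4 by rw [cand]; omega, P_two]; exact hgz
  · rw [c4, show cand a b / 256 % 16 = 2 by rw [cand]; omega, P_two]; exact hgu
  · rw [c8, heb, show cand a b / 4096 % 16 = b by rw [cand]; omega]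

theorem powM_lt (M : ℕ) : ∀ n, powM M n < 65536
  | 0 => by rw [powM, idM]; norm_num
  | n + 1 => by rw [powM]; exact comp_lt _ _

theorem exists_good [Finite G] : ∃ g : G, Real F (cand 12 3) g := by
  obtain ⟨g, a, b, ha, hb, hg⟩ := exists_swap F
  have h := List.all_eq_true.mp (List.all_eq_true.mp wit_all a (List.mem_range.mpr ha)) b
    (List.mem_range.mpr hb)
  rw [witOK] at h
  rcases e : witTab.getD (16 * a + b) (0, []) with ⟨k, w⟩
  simp only [e] at h
  match k, h with
  | 0, h =>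
    exfalso
    match w, h with
    | [v], h =>
      simp only [Bool.and_eq_true, Nat.blt_eq] at h
      obtain ⟨⟨hv0, hv⟩, hv'⟩ := h
      have := hg v hv
      rw [Nat.eq_of_beq_eq_true hv', P_zero, conj_eq_one_iff, ← P_zero F] at this
      have := P_inj F hv (by norm_num) this
      omega
    | [], h => simp at h
    | _ :: _ :: _, h => simp at h
  | 1, h =>
    exfalso
    obtain ⟨m, hm⟩ := real_word F hg w
    simp only [Bool.and_eq_true, Bool.not_eq_true'] at h
    have hlt : wordM (cand a b) w < 65536 := by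
      rcases List.eq_nil_or_concat w with rfl | ⟨w', k', rfl⟩
      · simp [wordM, idM]
      · simp only [wordM, List.concat_eq_append, List.foldl_append, List.foldl_cons, List.foldl_nil]
        exact comp_lt _ _
    rw [stab_mem F hlt hm (Nat.eq_of_beq_eq_true h.1)] at h
    exact absurd h.2 (by simp)
  | 2, h =>
    exfalso
    obtain ⟨m, hm⟩ := real_word F hg w
    simp only [Bool.and_eq_true, Bool.not_eq_true', List.any_eq_true, Nat.blt_eq, List.mem_range] at h
    obtain ⟨⟨h7, h2⟩, p, hp, hp0, hpp⟩ := h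
    set W := wordM (cand a b) w
    have hmc := hm p hp
    rw [Nat.eq_of_beq_eq_true hpp] at hmc
    have hpo : orderOf (P F p) = 2 := orderOf_eq_prime (by rw [pow_two]; exact P_sq F hp)
      (fun e => by have := P_inj F hp (y := 0) (by norm_num) (e.trans (P_zero F).symm); omega)
    obtain ⟨c, hc⟩ := isConj_iff.mp (F.hone _ F.z hpo F.hz)
    have hk : c * m * c⁻¹ * F.z = F.z * (c * m * c⁻¹) := by
      rw [← hc]
      calc c * m * c⁻¹ * (c * P F p * c⁻¹) = c * (m * P F p) * c⁻¹ := by group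
        _ = c * (P F p * m) * c⁻¹ := by rw [mul_inv_eq_iff_eq_mul.mp hmc]
        _ = _ := by group
    have hm1920 : m ^ 1920 = 1 := by
      have hd := orderOf_dvd_natCard (⟨_, F.mem_Cz.mpr hk⟩ : F.Cz)
      rw [Subgroup.orderOf_mk, F.card_Cz, ← MulAut.conj_apply, MulEquiv.orderOf_eq] at hd
      exact orderOf_dvd_iff_pow_eq_one.mp hd
    -- `m ^ 7` fixes the subgroup pointwise, so `m ^ 2` does as well
    have h7' : ∀ j x, x < 16 → (m ^ 7) ^ j * P F x * ((m ^ 7) ^ j)⁻¹ = P F x := by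
      intro j x hx
      induction j with
      | zero => simp
      | succ j ih =>
        have := real_pow F hm 7 x hx
        rw [Nat.eq_of_beq_eq_true h7, idM_app x hx] at this
        rw [pow_succ, show (m ^ 7) ^ j * m ^ 7 * P F x * ((m ^ 7) ^ j * m ^ 7)⁻¹ =
          (m ^ 7) ^ j * (m ^ 7 * P F x * (m ^ 7)⁻¹) * ((m ^ 7) ^ j)⁻¹ by group, this, ih]
    have e2 : powM W 2 = idM := code_ext (powM_lt W 2) (by rw [idM]; norm_num) fun e he => by
      have he16 : e < 16 := by simp only [List.mem_cons, List.not_mem_nil, or_false] at he; omega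
      rw [idM_app e he16]
      refine P_inj F (app_lt _ _) he16 ?_
      rw [← real_pow F hm 2 e he16]
      have hsplit : m ^ 2 = ((m ^ 7) ^ 274)⁻¹ := by
        refine eq_inv_of_mul_eq_one_left ?_
        rw [← pow_mul, ← pow_add]; exact hm1920
      rw [hsplit, inv_inv]
      have := h7' 274 e he16
      calc ((m ^ 7) ^ 274)⁻¹ * P F e * (m ^ 7) ^ 274
          = ((m ^ 7) ^ 274)⁻¹ * ((m ^ 7) ^ 274 * P F e * ((m ^ 7) ^ 274)⁻¹) * (m ^ 7) ^ 274 := by rw [this]
        _ = P F e := by group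
    rw [e2] at h2
    simp at h2
  | k + 3, h =>
    simp only [Bool.and_eq_true] at h
    rw [← Nat.eq_of_beq_eq_true h.1, ← Nat.eq_of_beq_eq_true h.2]
    exact ⟨g, hg⟩

/-- The element of order fifteen and the involution. -/
theorem exists_pair [Finite G] : ∃ t σ : G, t ^ 15 = 1 ∧ Real F hM t ∧ Real F sM σ ∧ σ * σ = 1 ∧
    σ ≠ 1 ∧ σ * t * σ⁻¹ = t ^ 4 := by
  obtain ⟨g, hg⟩ := exists_good F
  obtain ⟨h15, h16, hconj, hss, hfix, hsne, -, hsolve⟩ := hM_facts
  obtain ⟨m, hm⟩ := real_word F hg [0, 1, 2]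
  rw [hM_word] at hm
  obtain ⟨x, hx, hxe⟩ := real_id F (h15 ▸ real_pow F hm 15)
  have h30 : m ^ 30 = 1 := by rw [show (30 : ℕ) = 15 + 15 from rfl, pow_add, hxe]; exact P_sq F hx
  set t := m ^ 16 with ht
  have ht15 : t ^ 15 = 1 := by
    rw [ht, ← pow_mul, show (16 * 15 : ℕ) = 30 * 8 from rfl, pow_mul, h30, one_pow]
  have htR : Real F hM t := h16 ▸ real_pow F hm 16
  obtain ⟨s, -, hs⟩ := real_gen F 0 (by norm_num)
  have hs' : Real F sM s := hs
  have hsi : Real F sM s⁻¹ := by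
    intro y hy
    have h1 := hs' (app sM y) (app_lt _ _)
    have h2 : app sM (app sM y) = y := by
      obtain ⟨z', hz'⟩ : ∃ z', Real F (comp sM sM) z' := ⟨_, real_comp F hs' hs'⟩
      have := hs' y hy
      have key : ∀ y < 16, app sM (app sM y) = y := by decide +kernel
      exact key y hy
    rw [h2] at h1
    rw [inv_inv, ← h1]
    group
  have hk : Real F (powM hM 4) (s * t * s⁻¹) := by
    have h := real_comp F hs' (real_comp F htR hsi)
    rw [hconj, ← mul_assoc] at h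
    exact h
  have hid : Real F idM (s * t * s⁻¹ * (t ^ 4)⁻¹) := by
    intro y hy
    rw [idM_app y hy]
    have h4 := real_pow F htR 4
    have key : ∀ y < 16, ∃ x < 16, app (powM hM 4) x = y := by decide +kernel
    obtain ⟨x', hx', rfl⟩ := key y hy
    rw [← h4 x' hx', show s * t * s⁻¹ * (t ^ 4)⁻¹ * (t ^ 4 * P F x' * (t ^ 4)⁻¹) *
      (s * t * s⁻¹ * (t ^ 4)⁻¹)⁻¹ = (s * t * s⁻¹) * P F x' * (s * t * s⁻¹)⁻¹ by group, hk x' hx', h4 x' hx']
  obtain ⟨v, hv, hve⟩ := real_id F hid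
  obtain ⟨y, hy, hye⟩ := hsolve v hv
  set σ := P F y * s with hσ
  have hconjσ : σ * t * σ⁻¹ = t ^ 4 := by
    have hst : s * t * s⁻¹ = P F v * t ^ 4 := by rw [← hve]; group
    have hp := real_pow F htR 4 y hy
    rw [hσ, show P F y * s * t * (P F y * s)⁻¹ = P F y * (s * t * s⁻¹) * (P F y)⁻¹ by group, hst,
      show P F y * (P F v * t ^ 4) * (P F y)⁻¹ = P F y * P F v * (t ^ 4 * (P F y)⁻¹ * (t ^ 4)⁻¹) * t ^ 4
        by group, P_inv F hy, hp, ← P_xor F hy hv, ← P_xor F (xor_lt hy hv) (app_lt _ _), ← hye]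
    rw [show Nat.xor (Nat.xor y (Nat.xor y (app (powM hM 4) y))) (app (powM hM 4) y) = 0 from by
      show (y ^^^ (y ^^^ app (powM hM 4) y)) ^^^ app (powM hM 4) y = 0
      rw [← Nat.xor_assoc y y, Nat.xor_self, Nat.zero_xor, Nat.xor_self], P_zero, one_mul]
  have hσR : Real F sM σ := by
    intro e he
    rw [hσ, show P F y * s * P F e * (P F y * s)⁻¹ = P F y * (s * P F e * s⁻¹) * (P F y)⁻¹ by group,
      hs' e he, P_comm F hy (app_lt _ _)]
    group
  have hσσ : σ * σ = 1 := by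
    obtain ⟨x', hx', hxe'⟩ := real_id F (hss ▸ real_comp F hσR hσR)
    have hcomm : σ * σ * t * (σ * σ)⁻¹ = t := by
      rw [show σ * σ * t * (σ * σ)⁻¹ = σ * (σ * t * σ⁻¹) * σ⁻¹ by group, hconjσ, ← conj_pow, hconjσ,
        ← pow_mul, show (4 * 4 : ℕ) = 15 + 1 from rfl, pow_succ, ht15, one_mul]
    rw [hxe'] at hcomm
    have := htR x' hx'
    have e : app hM x' = x' := P_inj F (app_lt _ _) hx' (by
      rw [← this, mul_inv_eq_iff_eq_mul]
      exact (mul_inv_eq_iff_eq_mul.mp hcomm).symm)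
    rw [hxe', hfix x' hx' e, P_zero]
  refine ⟨t, σ, ht15, htR, hσR, hσσ, fun e => hsne (code_ext (by rw [sM]; norm_num) (by rw [idM]; norm_num)
    fun b hb => ?_), hconjσ⟩
  have he16 : b < 16 := by simp only [List.mem_cons, List.not_mem_nil, or_false] at hb; omega
  refine P_inj F (app_lt _ _) (app_lt _ _) ?_
  rw [← hσR b he16, e, idM_app b he16]
  group

end Cfsg.Agent.H52.JThree.Sixteen
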