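import Mathlib
import Cfsg.Agent.Linear.Generation

/-!
A group of rank one built from an elementary abelian subgroup `u`, an element `t` acting on it as a
generator of the multiplicative group of a field and an involution `w` inverting `t`: it is `SL(2, K)`.
-/

set_option autoImplicit false
set_option linter.style.haveILetI false
set_option linter.unusedSectionVars false

namespace Cfsg.Agent.H52.JThree.Sixteen

open Subgroup OnePoint Matrix

/-- The data: `u` embeds the additive group, `t` multiplies by `α`, `w` maps `t` to `t ^ s`. -/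
structure Line (G K : Type*) [Group G] [Field K] where
  u : K → G
  t : G
  w : G
  α : K
  n : ℕ
  s : ℕ
  two : ∀ a : K, a + a = 0
  u_add : ∀ a b, u (a + b) = u a * u b
  u_inj : Function.Injective u
  t_pow : t ^ n = 1
  α_cover : ∀ a : K, a ≠ 0 → ∃ j, α ^ j = a
  α_ne : α ^ s ≠ α
  n_pos : 0 < n
  α_ord : ∀ j, α ^ j = 1 → n ∣ j
  tu : ∀ a, t * u a * t⁻¹ = u (α * a)
  ww : w * w = 1
  wt : w * t * w = t ^ s
  rel : (u 1 * w) ^ 3 = 1

namespace Line

variable {G K : Type*} [Group G] [Field K] (L : Line G K)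

theorem u_zero : L.u 0 = 1 := by
  have h := L.u_add 0 0
  rw [add_zero] at h
  exact left_eq_mul.mp h

theorem u_sq (a : K) : L.u a * L.u a = 1 := by rw [← L.u_add, L.two, L.u_zero]

theorem u_inv (a : K) : (L.u a)⁻¹ = L.u a := inv_eq_of_mul_eq_one_right (L.u_sq a)

theorem tu_pow : ∀ (j : ℕ) (a : K), L.t ^ j * L.u a * (L.t ^ j)⁻¹ = L.u (L.α ^ j * a)
  | 0, a => by simp
  | j + 1, a => by
    rw [pow_succ, show L.t ^ j * L.t * L.u a * (L.t ^ j * L.t)⁻¹ =
      L.t ^ j * (L.t * L.u a * L.t⁻¹) * (L.t ^ j)⁻¹ by group, L.tu, tu_pow j, pow_succ, mul_assoc]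

theorem tu_pow' (j : ℕ) (a : K) : L.t ^ j * L.u a = L.u (L.α ^ j * a) * L.t ^ j := by
  rw [← L.tu_pow]; group

theorem w_inv : L.w⁻¹ = L.w := inv_eq_of_mul_eq_one_right L.ww

theorem wt_pow (j : ℕ) : L.w * L.t ^ j * L.w = L.t ^ (L.s * j) := by
  rw [pow_mul, ← L.wt]
  conv_rhs => rw [show L.w * L.t * L.w = L.w * L.t * L.w⁻¹ by rw [L.w_inv], conj_pow, L.w_inv]

theorem t_inv_pow (j : ℕ) : ∃ i, (L.t ^ j)⁻¹ = L.t ^ i :=
  ⟨L.n * j - j, inv_eq_of_mul_eq_one_right (by
    rw [← pow_add, Nat.add_sub_cancel' (Nat.le_mul_of_pos_left j L.n_pos), pow_mul, L.t_pow, one_pow])⟩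

/-- The stabiliser of the point at infinity. -/
def B : Subgroup G where
  carrier := {g | ∃ a j, g = L.u a * L.t ^ j}
  one_mem' := ⟨0, 0, by rw [L.u_zero]; simp⟩
  mul_mem' := by
    rintro _ _ ⟨a, j, rfl⟩ ⟨b, i, rfl⟩
    refine ⟨a + L.α ^ j * b, j + i, ?_⟩
    rw [L.u_add, pow_add, ← L.tu_pow j b]
    group
  inv_mem' := by
    rintro _ ⟨a, j, rfl⟩
    obtain ⟨i, hi⟩ := L.t_inv_pow j
    refine ⟨L.α ^ i * a, i, ?_⟩
    rw [_root_.mul_inv_rev, L.u_inv, hi, L.tu_pow']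

theorem mem_B {g : G} : g ∈ L.B ↔ ∃ a j, g = L.u a * L.t ^ j := Iff.rfl

theorem u_mem (a : K) : L.u a ∈ L.B := ⟨a, 0, by rw [pow_zero, mul_one]⟩

theorem t_mem (j : ℕ) : L.t ^ j ∈ L.B := ⟨0, j, by rw [L.u_zero, one_mul]⟩

/-- A power of `t` lying in the image of `u` is trivial. -/
theorem pow_eq_u {j : ℕ} {c : K} (h : L.t ^ j = L.u c) : L.α ^ j = 1 := by
  have h1 := L.tu_pow j 1
  rw [h, mul_inv_eq_iff_eq_mul, ← L.u_add, ← L.u_add] at h1
  have h2 := L.u_inj h1
  rw [add_comm c 1, mul_one] at h2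
  exact (add_right_cancel h2).symm

theorem α_pow_n : L.α ^ L.n = 1 := L.pow_eq_u (c := 0) (by rw [L.t_pow, L.u_zero])

theorem α_ne_zero : L.α ≠ 0 := fun h => by
  have := L.α_pow_n
  rw [h, zero_pow L.n_pos.ne'] at this
  exact zero_ne_one this

theorem w_notMem : L.w ∉ L.B := by
  rintro ⟨a, j, h⟩
  -- conjugation by `u a * t ^ j` fixes `t` modulo the image of `u`
  have h1 := L.wt
  rw [show L.w * L.t * L.w = L.w * L.t * L.w⁻¹ by rw [L.w_inv], h,
    show L.u a * L.t ^ j * L.t * (L.u a * L.t ^ j)⁻¹ = L.u a * L.t * (L.u a)⁻¹ by group, L.u_inv,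
    mul_assoc (L.u a), show L.t = L.t ^ 1 from (pow_one _).symm, L.tu_pow', ← mul_assoc, ← L.u_add,
    pow_one, pow_one] at h1
  obtain ⟨i, hi⟩ := L.t_inv_pow 1
  rw [pow_one] at hi
  have h2 : L.t ^ (L.s + i) = L.u (a + L.α * a) := by
    rw [pow_add, ← hi, ← h1]; group
  have h3 := L.pow_eq_u h2
  have h4 : L.α ^ (1 + i) = 1 := L.pow_eq_u (c := 0) (by rw [pow_add, pow_one, ← hi, mul_inv_cancel, L.u_zero])
  rw [pow_add] at h3
  rw [pow_add, pow_one] at h4
  exact L.α_ne (mul_right_cancel₀ (pow_ne_zero i L.α_ne_zero) (h3.trans h4.symm))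

/-- The basic relation, moved along by `t`. -/
theorem wuw {a : K} (ha : a ≠ 0) : ∃ b ∈ L.B, L.w * L.u a * L.w = L.u (a ^ L.s) * L.w * b := by
  obtain ⟨j, rfl⟩ := L.α_cover a ha
  have hrel : L.w * L.u 1 * L.w = L.u 1 * L.w * L.u 1 := by
    have h := L.rel
    rw [pow_succ, pow_two] at h
    calc L.w * L.u 1 * L.w
        = (L.u 1)⁻¹ * (L.u 1 * L.w * (L.u 1 * L.w) * (L.u 1 * L.w)) * (L.w⁻¹ * (L.u 1)⁻¹) := by group
      _ = L.u 1 * L.w * L.u 1 := by rw [h, mul_one, L.u_inv, L.w_inv, mul_assoc]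
  set m := L.s * j with hm
  refine ⟨L.t ^ (L.s * m) * (L.t ^ m)⁻¹ * L.u ((L.α ^ j) ^ L.s),
    mul_mem (mul_mem (L.t_mem _) (inv_mem (L.t_mem _))) (L.u_mem _), ?_⟩
  have e1 : L.w * L.t ^ j = L.t ^ m * L.w := by
    rw [hm, ← L.wt_pow, mul_assoc, L.ww, mul_one]
  have e2 : (L.t ^ j)⁻¹ * L.w = L.w * (L.t ^ m)⁻¹ := by
    have := congrArg (fun g => g⁻¹) e1
    simpa [_root_.mul_inv_rev, L.w_inv] using this
  have e3 : L.t ^ m * L.w = L.w * L.t ^ (L.s * m) := by
    conv_rhs => rw [← L.wt_pow m, ← mul_assoc, ← mul_assoc, L.ww, one_mul]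
  rw [← pow_mul, mul_comm j, ← hm,
    show L.u (L.α ^ j) = L.u (L.α ^ j * 1) by rw [mul_one], ← L.tu_pow,
    show L.w * (L.t ^ j * L.u 1 * (L.t ^ j)⁻¹) * L.w = (L.w * L.t ^ j) * L.u 1 * ((L.t ^ j)⁻¹ * L.w) by group,
    e1, e2, show L.t ^ m * L.w * L.u 1 * (L.w * (L.t ^ m)⁻¹) = L.t ^ m * (L.w * L.u 1 * L.w) * (L.t ^ m)⁻¹
      by group, hrel,
    show L.t ^ m * (L.u 1 * L.w * L.u 1) * (L.t ^ m)⁻¹ =
      (L.t ^ m * L.u 1 * (L.t ^ m)⁻¹) * (L.t ^ m * L.w) * (L.t ^ m)⁻¹ * (L.t ^ m * L.u 1 * (L.t ^ m)⁻¹) by group,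
    L.tu_pow, mul_one, e3]
  group

/-- The points. -/
def pt (x : OnePoint K) : G ⧸ L.B :=
  Option.elim (x : Option K) (QuotientGroup.mk 1) fun a => QuotientGroup.mk (L.u a * L.w)

theorem pt_some (a : K) : L.pt a = QuotientGroup.mk (L.u a * L.w) := rfl

theorem pt_inj : Function.Injective L.pt := by
  intro x y h
  cases x with
  | infty =>
    cases y with
    | infty => rfl
    | coe b =>
      exfalso
      have h' : (1 : G)⁻¹ * (L.u b * L.w) ∈ L.B := QuotientGroup.eq.mp h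
      rw [inv_one, one_mul] at h'
      exact L.w_notMem ((L.B.mul_mem_cancel_left (L.u_mem b)).mp h')
  | coe a =>
    cases y with
    | infty =>
      exfalso
      have h' : (L.u a * L.w)⁻¹ * 1 ∈ L.B := QuotientGroup.eq.mp h
      rw [mul_one, inv_mem_iff] at h'
      exact L.w_notMem ((L.B.mul_mem_cancel_left (L.u_mem a)).mp h')
    | coe b =>
      by_contra hne
      have hne' : a + b ≠ 0 := fun e => hne (congrArg _ (add_right_cancel (e.trans (L.two b).symm)))
      have h' : (L.u a * L.w)⁻¹ * (L.u b * L.w) ∈ L.B := QuotientGroup.eq.mp h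
      rw [_root_.mul_inv_rev, L.w_inv, L.u_inv,
        show L.w * L.u a * (L.u b * L.w) = L.w * (L.u a * L.u b) * L.w by group, ← L.u_add] at h'
      obtain ⟨c, hc, e⟩ := L.wuw hne'
      rw [e, L.B.mul_mem_cancel_right hc] at h'
      exact L.w_notMem ((L.B.mul_mem_cancel_left (L.u_mem _)).mp h')

theorem mk_smul (g h : G) : g • (QuotientGroup.mk h : G ⧸ L.B) = QuotientGroup.mk (g * h) :=
  MulAction.Quotient.smul_mk L.B g h

theorem u_pt_infty (b : K) : L.u b • L.pt ∞ = L.pt ∞ := by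
  refine (L.mk_smul _ _).trans (QuotientGroup.eq.mpr ?_)
  simp only [mul_one, mul_inv_cancel_left, inv_mul_cancel]
  exact inv_mem (L.u_mem b)

theorem u_pt (b a : K) : L.u b • L.pt a = L.pt (b + a : K) := by
  rw [pt_some, pt_some, mk_smul, L.u_add, mul_assoc]

theorem w_pt_infty : L.w • L.pt ∞ = L.pt (0 : K) := by
  rw [pt_some, L.u_zero, one_mul]
  exact (L.mk_smul _ _).trans (by rw [mul_one])

theorem w_pt_zero : L.w • L.pt (0 : K) = L.pt ∞ := by
  rw [← L.w_pt_infty, smul_smul, L.ww, one_smul]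

theorem w_pt {a : K} (ha : a ≠ 0) : L.w • L.pt a = L.pt (a ^ L.s : K) := by
  obtain ⟨b, hb, e⟩ := L.wuw ha
  rw [pt_some, pt_some, mk_smul, ← mul_assoc, e]
  exact QuotientGroup.mk_mul_of_mem _ hb

theorem t_pt (j : ℕ) (a : K) : L.t ^ j • L.pt a = L.pt (L.α ^ j * a : K) := by
  rw [pt_some, pt_some, mk_smul, ← mul_assoc, L.tu_pow', mul_assoc,
    show L.t ^ j * L.w = L.w * L.t ^ (L.s * j) by
      rw [← L.wt_pow, ← mul_assoc, ← mul_assoc, L.ww, one_mul], ← mul_assoc]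
  exact QuotientGroup.mk_mul_of_mem _ (L.t_mem _)

/-- The group generated by the image of `u` and by `w`. -/
def grp : Subgroup G := closure (Set.range L.u ∪ {L.w})

theorem u_grp (a : K) : L.u a ∈ L.grp := subset_closure (Or.inl ⟨a, rfl⟩)

theorem w_grp : L.w ∈ L.grp := subset_closure (Or.inr rfl)

/-- `g` acts on the points as `A` does on the line. -/
def Acts [DecidableEq K] (A : SpecialLinearGroup (Fin 2) K) (g : G) : Prop :=
  ∀ x : OnePoint K, g • L.pt x = L.pt ((SpecialLinearGroup.toGL A) • x)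

section

variable [DecidableEq K]

theorem acts_one : L.Acts 1 1 := fun x => by rw [map_one, one_smul, one_smul]

theorem acts_mul {A A' : SpecialLinearGroup (Fin 2) K} {g g' : G} (h : L.Acts A g) (h' : L.Acts A' g') :
    L.Acts (A * A') (g * g') := fun x => by rw [mul_smul, h', h, map_mul, mul_smul]

theorem acts_upper (c : K) :
    L.Acts (SpecialLinearGroup.transvection (i := (0 : Fin 2)) (j := 1) (by decide) c) (L.u c) := by
  intro x
  cases x with
  | infty =>
    rw [L.u_pt_infty, smul_infty_eq_ite, if_pos]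
    simp [SpecialLinearGroup.transvection_coe]
  | coe a =>
    rw [L.u_pt, smul_some_eq_ite]
    simp [SpecialLinearGroup.transvection_coe, add_comm]

theorem acts_lower (hs : ∀ a : K, a ≠ 0 → a ^ L.s = a⁻¹) (c : K) :
    L.Acts (SpecialLinearGroup.transvection (i := (1 : Fin 2)) (j := 0) (by decide) c)
      (L.w * L.u c * L.w) := by
  intro x
  rw [mul_smul, mul_smul]
  cases x with
  | infty =>
    rw [L.w_pt_infty, L.u_pt, add_zero, smul_infty_eq_ite]
    by_cases hc : c = 0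
    · subst hc
      rw [L.w_pt_zero, if_pos]
      simp [SpecialLinearGroup.transvection_coe]
    · rw [L.w_pt hc, hs c hc, if_neg]
      · simp [SpecialLinearGroup.transvection_coe]
      · simpa [SpecialLinearGroup.transvection_coe] using hc
  | coe a =>
    rw [smul_some_eq_ite]
    by_cases ha : a = 0
    · subst ha
      rw [L.w_pt_zero, L.u_pt_infty, L.w_pt_infty]
      simp [SpecialLinearGroup.transvection_coe]
    · rw [L.w_pt ha, L.u_pt, hs a ha]
      by_cases he : c + a⁻¹ = 0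
      · rw [he, L.w_pt_zero, if_pos]
        simp [SpecialLinearGroup.transvection_coe]
        field_simp at he
        linear_combination he
      · rw [L.w_pt he, hs _ he, if_neg]
        · congr 2
          simp [SpecialLinearGroup.transvection_coe]
          field_simp
        · simp [SpecialLinearGroup.transvection_coe]
          intro h0
          apply he
          field_simp
          linear_combination h0

theorem exists_acts (hs : ∀ a : K, a ≠ 0 → a ^ L.s = a⁻¹) (A : SpecialLinearGroup (Fin 2) K) :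
    ∃ g ∈ L.grp, L.Acts A g := by
  refine Cfsg.Agent.Linear.transvection_induction (P := fun A => ∃ g ∈ L.grp, L.Acts A g)
    ⟨1, one_mem _, L.acts_one⟩ (fun i j hij c => ?_)
    (fun A A' ⟨g, hg, h⟩ ⟨g', hg', h'⟩ => ⟨g * g', mul_mem hg hg', L.acts_mul h h'⟩) A
  fin_cases i <;> fin_cases j
  · exact absurd rfl hij
  · exact ⟨_, L.u_grp c, L.acts_upper c⟩
  · exact ⟨_, mul_mem (mul_mem L.w_grp (L.u_grp c)) L.w_grp, L.acts_lower hs c⟩
  · exact absurd rfl hij

/-- The matrix of the involution. -/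
def wMat : SpecialLinearGroup (Fin 2) K := ⟨!![0, 1; 1, 0], by
  rw [det_fin_two_of, mul_zero, one_mul, zero_sub]
  exact neg_eq_of_add_eq_zero_left (L.two 1)⟩

theorem wMat_coe : (L.wMat : Matrix (Fin 2) (Fin 2) K) = !![0, 1; 1, 0] := rfl

theorem acts_w (hs : ∀ a : K, a ≠ 0 → a ^ L.s = a⁻¹) : L.Acts L.wMat L.w := by
  intro x
  cases x with
  | infty =>
    rw [L.w_pt_infty, smul_infty_eq_ite]
    simp [wMat_coe]
  | coe a =>
    rw [smul_some_eq_ite]
    by_cases ha : a = 0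
    · subst ha
      rw [L.w_pt_zero]; simp [wMat_coe]
    · rw [L.w_pt ha, hs a ha]; simp [wMat_coe, ha]

theorem acts_exists_mat (hs : ∀ a : K, a ≠ 0 → a ^ L.s = a⁻¹) {g : G} (hg : g ∈ L.grp) :
    ∃ A, L.Acts A g := by
  induction hg using closure_induction with
  | mem g hg =>
    rcases hg with ⟨a, rfl⟩ | rfl
    · exact ⟨_, L.acts_upper a⟩
    · exact ⟨_, L.acts_w hs⟩
  | one => exact ⟨1, L.acts_one⟩
  | mul g g' _ _ h h' =>
    obtain ⟨A, hA⟩ := h
    obtain ⟨A', hA'⟩ := h'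
    exact ⟨A * A', L.acts_mul hA hA'⟩
  | inv g _ h =>
    obtain ⟨A, hA⟩ := h
    exact ⟨A⁻¹, fun x => by
      rw [inv_smul_eq_iff, hA, smul_smul, ← map_mul, mul_inv_cancel, map_one, one_smul]⟩

/-- The action is faithful. -/
theorem eq_one_of_fix {g : G} (h : ∀ x, g • L.pt x = L.pt x) : g = 1 := by
  have h1 : (QuotientGroup.mk (g * 1) : G ⧸ L.B) = QuotientGroup.mk 1 := (L.mk_smul g 1).symm.trans (h ∞)
  rw [mul_one, QuotientGroup.eq, mul_one, inv_mem_iff] at h1
  obtain ⟨b, j, rfl⟩ := h1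
  have h0 := h (0 : K)
  rw [mul_smul, L.t_pt, mul_zero, L.u_pt, add_zero] at h0
  have hb : b = 0 := OnePoint.coe_injective (L.pt_inj h0)
  subst hb
  rw [L.u_zero, one_mul] at h ⊢
  have h1' := h (1 : K)
  rw [L.t_pt, mul_one] at h1'
  obtain ⟨k, rfl⟩ := L.α_ord j (OnePoint.coe_injective (L.pt_inj h1'))
  rw [pow_mul, L.t_pow, one_pow]

theorem mat_eq_one (h2 : ∀ a : K, a + a = 0) {A : SpecialLinearGroup (Fin 2) K}
    (h : ∀ x : OnePoint K, (SpecialLinearGroup.toGL A) • x = x) : A = 1 := by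
  have hd := A.det_coe
  rw [det_fin_two] at hd
  have hi := h ∞
  rw [smul_infty_eq_ite] at hi
  have hc : (A : Matrix (Fin 2) (Fin 2) K) 1 0 = 0 := by
    by_contra hc
    rw [if_neg (by simpa using hc)] at hi
    exact OnePoint.coe_ne_infty _ hi
  simp only [hc, mul_zero, sub_zero] at hd
  have hd1 : (A : Matrix (Fin 2) (Fin 2) K) 1 1 ≠ 0 := right_ne_zero_of_mul (hd ▸ one_ne_zero)
  have h0 := h (0 : K)
  rw [smul_some_eq_ite] at h0
  simp [hc, hd1] at h0
  have h1 := h (1 : K)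
  rw [smul_some_eq_ite] at h1
  simp [hc, hd1, h0] at h1
  rw [div_eq_one_iff_eq hd1] at h1
  rw [← h1] at hd
  have ha : (A : Matrix (Fin 2) (Fin 2) K) 0 0 = 1 := by
    have e : ((A : Matrix (Fin 2) (Fin 2) K) 0 0 + 1) * ((A : Matrix (Fin 2) (Fin 2) K) 0 0 + 1) = 0 := by
      linear_combination hd + h2 ((A : Matrix (Fin 2) (Fin 2) K) 0 0) + h2 1
    exact add_right_cancel ((mul_self_eq_zero.mp e).trans (h2 1).symm)
  ext i j
  fin_cases i <;> fin_cases j
  · simpa using ha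
  · simpa using h0
  · simpa using hc
  · simpa [← h1] using ha

theorem acts_unique {A : SpecialLinearGroup (Fin 2) K} {g g' : G} (h : L.Acts A g) (h' : L.Acts A g') :
    g = g' :=
  inv_mul_eq_one.mp (L.eq_one_of_fix (g := g⁻¹ * g') fun x => by rw [mul_smul, h', ← h, inv_smul_smul])

/-- The group is `SL(2, K)`. -/
theorem iso (hs : ∀ a : K, a ≠ 0 → a ^ L.s = a⁻¹) :
    Nonempty (L.grp ≃* SpecialLinearGroup (Fin 2) K) := by
  choose φ hφm hφ using L.exists_acts hs
  let f : SpecialLinearGroup (Fin 2) K →* L.grp :=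
    MonoidHom.mk' (fun A => ⟨φ A, hφm A⟩) fun A A' =>
      Subtype.ext (L.acts_unique (hφ _) (L.acts_mul (hφ A) (hφ A')))
  refine ⟨(MulEquiv.ofBijective f ⟨?_, ?_⟩).symm⟩
  · rw [injective_iff_map_eq_one]
    intro A hA
    refine mat_eq_one L.two fun x => L.pt_inj ?_
    rw [← hφ A x, show φ A = 1 from congrArg Subtype.val hA, one_smul]
  · rintro ⟨g, hg⟩
    obtain ⟨A, hA⟩ := L.acts_exists_mat hs hg
    exact ⟨A, Subtype.ext (L.acts_unique (hφ A) hA)⟩

end

end Line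

end Cfsg.Agent.H52.JThree.Sixteen
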