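import Cfsg.Agent.H52.JThree.L16.Image

/-!
An involution `w` normalising the element of order fifteen with `(u w) ^ 3 = 1` for some `u`, found in
the centraliser of the field automorphism.
-/

set_option autoImplicit false
set_option maxRecDepth 10000
set_option linter.style.haveILetI false
set_option linter.unusedSectionVars false
set_option synthInstance.maxSize 4000

namespace Cfsg.Agent.H52.JThree.Sixteen

open Code Subgroup

variable {G : Type*} [Group G]

theorem exists_frame_at [Finite G] (F : Frame G) {s : G} (hs : orderOf s = 2) : ∃ F' : Frame G, F'.z = s := by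
  obtain ⟨g, hg⟩ := isConj_iff.mp (F.hone F.z s F.hz hs)
  refine ⟨{
    z := s
    φ := fun i => g * F.φ i * g⁻¹
    hz := hs
    map_mul := fun {i j} hi hj => by
      show g * F.φ (Code.mul i j) * g⁻¹ = g * F.φ i * g⁻¹ * (g * F.φ j * g⁻¹)
      rw [F.map_mul hi hj]; group
    inj := fun {i j} hi hj h => F.inj hi hj (mul_left_cancel (mul_right_cancel h))
    map_z := by show g * F.φ 16 * g⁻¹ = s; rw [F.map_z, hg]
    mem := fun c => by
      constructor
      · intro hc
        obtain ⟨i, hi, he⟩ := (F.mem (g⁻¹ * c * g)).mp (by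
          calc g⁻¹ * c * g * F.z = g⁻¹ * (c * (g * F.z * g⁻¹)) * g := by group
            _ = g⁻¹ * (g * F.z * g⁻¹ * c) * g := by rw [hg, hc]
            _ = _ := by group)
        exact ⟨i, hi, by show g * F.φ i * g⁻¹ = c; rw [he]; group⟩
      · rintro ⟨i, hi, rfl⟩
        show g * F.φ i * g⁻¹ * s = s * (g * F.φ i * g⁻¹)
        rw [← hg]
        calc g * F.φ i * g⁻¹ * (g * F.z * g⁻¹) = g * (F.φ i * F.z) * g⁻¹ := by group
          _ = g * (F.z * F.φ i) * g⁻¹ := by rw [F.comm_z hi]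
          _ = _ := by group
    hone := F.hone }, rfl⟩

/-- Elements commuting with an element of order five and with an involution that commutes with it. -/
theorem five_involution [Finite G] (F : Frame G) {a k s : G} (hs : orderOf s = 2) (ha : orderOf a = 5)
    (has : a * s = s * a) (hks : k * s = s * k) (hka : k * a = a * k) :
    k ^ 10 = 1 ∧ (k * k = 1 → k = 1 ∨ k = s) := by
  haveI := Fintype.ofFinite G
  obtain ⟨F', rfl⟩ := exists_frame_at F hs
  obtain ⟨i, hi, rfl⟩ := (F'.mem a).mp has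
  have h5 : powN i 5 = 0 := F'.inj (F'.φ_pow hi 5).1 (by norm_num) (by
    rw [(F'.φ_pow hi 5).2, F'.map_zero, ← ha]; exact pow_orderOf_eq_one _)
  have h0 : i ≠ 0 := fun h => by rw [h, F'.map_zero, orderOf_one] at ha; norm_num at ha
  have h := List.all_eq_true.mp five_cls.1 i (List.mem_range.mpr hi)
  simp only [h5, Nat.beq_refl, cond_true, Bool.or_eq_true] at h
  have hc : cls i ∈ [12, 14] := by
    rcases h with (h | h) | h
    · exact absurd (Nat.eq_of_beq_eq_true h) h0
    · simp [Nat.eq_of_beq_eq_true h]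
    · simp [Nat.eq_of_beq_eq_true h]
  obtain ⟨c, hc1, hc2⟩ := F'.exists_conj_rep hi
  have hr : rep (cls i) < 1920 := (rep_check _ (cls_lt hi)).1
  set k' := c⁻¹ * k * c with hk'
  have hk'z : k' * F'.z = F'.z * k' :=
    Commute.mul_left (Commute.mul_left (Commute.inv_left (show Commute c F'.z from hc1))
      (show Commute k F'.z from hks)) hc1
  obtain ⟨j, hj, hje⟩ := (F'.mem k').mp hk'z
  have hjc : Code.mul j (rep (cls i)) = Code.mul (rep (cls i)) j :=
    F'.inj (Code.mul_lt hj hr) (Code.mul_lt hr hj) (by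
      rw [F'.map_mul hj hr, F'.map_mul hr hj, hje,
        show F'.φ (rep (cls i)) = c⁻¹ * F'.φ i * c by rw [← hc2]; group, hk']
      calc c⁻¹ * k * c * (c⁻¹ * F'.φ i * c) = c⁻¹ * (k * F'.φ i) * c := by group
        _ = c⁻¹ * (F'.φ i * k) * c := by rw [hka]
        _ = _ := by group)
  have h := List.all_eq_true.mp (five_cen _ hc) j (List.mem_range.mpr hj)
  rw [hjc, Nat.beq_refl, cond_true, Bool.and_eq_true] at h
  have hkk : k = c * k' * c⁻¹ := by rw [hk']; group
  refine ⟨?_, fun h2 => ?_⟩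
  · rw [hkk, conj_pow, ← hje, ← (F'.φ_pow hj 10).2, Nat.eq_of_beq_eq_true h.1, F'.map_zero]; group
  · have hjj : Code.mul j j = 0 := F'.inj (Code.mul_lt hj hj) (by norm_num) (by
      rw [F'.map_mul hj hj, F'.map_zero, hje, hk',
        show c⁻¹ * k * c * (c⁻¹ * k * c) = c⁻¹ * (k * k) * c by group, h2]; group)
    have h' := h.2
    simp only [hjj, Nat.beq_refl, cond_true, Bool.or_eq_true] at h'
    rcases h' with e | e
    · left; rw [hkk, ← hje, Nat.eq_of_beq_eq_true e, F'.map_zero]; group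
    · right
      rw [hkk, ← hje, Nat.eq_of_beq_eq_true e, F'.map_z, hc1]; group

/-- The product of two involutions commuting with an element of order five has odd order. -/
theorem odd_product [Finite G] (F : Frame G) {a p q : G} (ha : orderOf a = 5) (hp : orderOf p = 2)
    (hq : orderOf q = 2) (hpa : p * a = a * p) (hqa : q * a = a * q) : Odd (orderOf (p * q)) := by
  have hpp : p * p = 1 := by rw [← pow_two, ← hp]; exact pow_orderOf_eq_one p
  have hqq : q * q = 1 := by rw [← pow_two, ← hq]; exact pow_orderOf_eq_one q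
  have hq1 : q ≠ 1 := fun e => by rw [e, orderOf_one] at hq; norm_num at hq
  set n := orderOf (p * q) with hn
  by_contra hodd
  obtain ⟨m, hm⟩ := Nat.not_odd_iff_even.mp hodd
  have hnpos : 0 < n := orderOf_pos _
  set k := (p * q) ^ m with hk
  have hk2 : k * k = 1 := by rw [hk, ← pow_add, ← hm, hn]; exact pow_orderOf_eq_one _
  have hinv : p * (p * q) * p⁻¹ = (p * q)⁻¹ := by
    rw [mul_inv_rev, inv_eq_of_mul_eq_one_right hpp, inv_eq_of_mul_eq_one_right hqq, ← mul_assoc p p q, hpp,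
      one_mul]
  have hkp : k * p = p * k := by
    have : p * k * p⁻¹ = k := by
      rw [hk, ← conj_pow, hinv, inv_pow, ← hk]; exact inv_eq_of_mul_eq_one_right hk2
    exact (mul_inv_eq_iff_eq_mul.mp this).symm
  have hka : k * a = a * k := (Commute.mul_left (show Commute p a from hpa) hqa).pow_left m
  have hk1 : k ≠ 1 := fun e => by
    have := orderOf_dvd_iff_pow_eq_one.mpr e
    rw [← hn] at this
    have := Nat.le_of_dvd (by omega) this
    omega
  have hkeq := ((five_involution F hp ha hpa.symm hkp hka).2 hk2).resolve_left hk1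
  have hcomm : (p * q) * p = p * (p * q) := by
    have hh : (p * q) * k = k * (p * q) := by rw [hk]; exact (Commute.self_pow (p * q) m).eq
    rwa [hkeq] at hh
  have hpq : q * p = p * q := by
    have := congrArg (fun v => p * v) hcomm
    simp only [← mul_assoc, hpp, one_mul] at this
    exact this
  rcases (five_involution F hp ha hpa.symm hpq hqa).2 hqq with e | e
  · exact hq1 e
  · have : n = 1 := by rw [hn, e, hpp, orderOf_one]
    omega

theorem exists_local [Finite G] (F : Frame G) (hG : Nat.card G = 50232960) :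
    ∃ (t σ w : G) (p : ℕ), p < 4 ∧ p ≠ 0 ∧ Real F hM t ∧ Real F sM σ ∧ t ^ 15 = 1 ∧ σ * σ = 1 ∧ σ ≠ 1 ∧
      σ * t * σ⁻¹ = t ^ 4 ∧ w * w = 1 ∧ σ * w = w * σ ∧ (w * t * w = t ^ 14 ∨ w * t * w = t ^ 11) ∧
      (P F p * w) ^ 3 = 1 := by
  haveI := Fintype.ofFinite G
  obtain ⟨t, σ, ht15, htR, hσR, hσσ, hσ1, hσt⟩ := exists_pair F
  haveI : Fact (Nat.Prime 5) := ⟨by norm_num⟩
  have hσo : orderOf σ = 2 := orderOf_eq_prime (by rw [pow_two]; exact hσσ) hσ1
  have hσi : σ⁻¹ = σ := inv_eq_of_mul_eq_one_right hσσ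
  obtain ⟨x, hx⟩ : ∃ v, v = t ^ 5 := ⟨_, rfl⟩
  obtain ⟨y, hy⟩ : ∃ v, v = t ^ 3 := ⟨_, rfl⟩
  have hx3 : x ^ 3 = 1 := by rw [hx, ← pow_mul, ht15]
  have hy5 : y ^ 5 = 1 := by rw [hy, ← pow_mul, ht15]
  have hx1 : x ≠ 1 := fun e => by
    have h := real_pow F htR 5 1 (by norm_num)
    rw [← hx, e] at h
    have : app (powM hM 5) 1 = 1 := (P_inj F (by norm_num) (app_lt _ _) (by rw [← h]; group)).symm
    exact orbit_five.2.2 this
  have hy1 : y ≠ 1 := fun e => by
    have h := real_pow F htR 3 1 (by norm_num)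
    rw [← hy, e] at h
    have : 1 = app (powM hM 3) 1 := P_inj F (by norm_num) (app_lt _ _) (by rw [← h]; group)
    have : app (powM hM 3) 1 ≠ 1 := by decide +kernel
    omega
  have hyo : orderOf y = 5 := orderOf_eq_prime hy5 hy1
  have hσx : σ * x * σ⁻¹ = x := by
    rw [hx, ← conj_pow, hσt, ← pow_mul, show 4 * 5 = 15 + 5 from rfl, pow_add, ht15, one_mul]
  have hσy : σ * y * σ⁻¹ = y ^ 4 := by rw [hy, ← conj_pow, hσt, ← pow_mul, ← pow_mul]
  -- a first involution commuting with `y`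
  obtain ⟨F', hF'⟩ := exists_frame_at F hσo
  have h25 : ¬ 5 ^ 2 ∣ Nat.card G := by rw [hG]; norm_num
  have hS5 : ∀ S : Sylow 5 G, Nat.card (S : Subgroup G) = 5 := fun S => by
    obtain ⟨k, hk⟩ := IsPGroup.iff_card.mp S.isPGroup'
    have hd : 5 ^ k ∣ Nat.card G := hk ▸ card_subgroup_dvd_card _
    have hk1 : k ≤ 1 := by
      by_contra hk1
      exact h25 ((pow_dvd_pow 5 (by omega)).trans hd)
    have h5 : 5 ∣ Nat.card (S : Subgroup G) := Sylow.dvd_card_of_dvd_card S (by rw [hG]; norm_num)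
    rcases Nat.le_one_iff_eq_zero_or_eq_one.mp hk1 with rfl | rfl
    · rw [hk] at h5; norm_num at h5
    · rw [hk, pow_one]
  have hzp : ∀ a : G, orderOf a = 5 → ∃ S : Sylow 5 G, (S : Subgroup G) = zpowers a := fun a ha => by
    obtain ⟨S, hS⟩ := (IsPGroup.of_card (n := 1) (by rw [Nat.card_zpowers, ha, pow_one]) :
      IsPGroup 5 (zpowers a)).exists_le_sylow
    exact ⟨S, (eq_of_le_of_card_ge hS (by rw [hS5, Nat.card_zpowers, ha])).symm⟩
  obtain ⟨h512, h5120⟩ := five_cls.2
  set f := F'.φ 512 with hf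
  have hfo : orderOf f = 5 := orderOf_eq_prime
    (by rw [hf, ← (F'.φ_pow (by norm_num) 5).2, h512, F'.map_zero])
    (fun h => h5120 (F'.inj (by norm_num) (by norm_num) (h.trans F'.map_zero.symm)))
  obtain ⟨S₁, hS₁⟩ := hzp y hyo
  obtain ⟨S₂, hS₂⟩ := hzp f hfo
  obtain ⟨g, hg⟩ := MulAction.exists_smul_eq G S₁ S₂
  have hgy : g * y * g⁻¹ ∈ zpowers f := by
    rw [← hS₂, ← hg, Sylow.coe_subgroup_smul, mem_pointwise_smul_iff_inv_smul_mem, MulAut.smul_def, hS₁,
      ← map_inv, MulAut.conj_apply]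
    convert mem_zpowers y using 1
    group
  have hgyσ : Commute (g * y * g⁻¹) σ := by
    obtain ⟨n, hn⟩ := mem_zpowers_iff.mp hgy
    rw [← hn]
    exact Commute.zpow_left (by rw [← hF']; exact F'.comm_z (by norm_num)) n
  obtain ⟨z₀, hz₀⟩ : ∃ v, v = g⁻¹ * σ * g := ⟨_, rfl⟩
  have hz₀o : orderOf z₀ = 2 := by
    rw [hz₀, show g⁻¹ * σ * g = g⁻¹ * σ * g⁻¹⁻¹ by group, ← MulAut.conj_apply, MulEquiv.orderOf_eq, hσo]
  have hz₀y : z₀ * y = y * z₀ := by
    calc z₀ * y = g⁻¹ * (σ * (g * y * g⁻¹)) * g := by rw [hz₀]; group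
      _ = g⁻¹ * (g * y * g⁻¹ * σ) * g := by rw [hgyσ.eq]
      _ = y * z₀ := by rw [hz₀]; group
  have hσy' : σ * y * σ = y ^ 4 := by rw [← hσy, hσi]
  have hz₀σy : σ * z₀ * σ * y = y * (σ * z₀ * σ) := by
    have hy4 : y = σ * y ^ 4 * σ := by
      rw [← hσy', show σ * (σ * y * σ) * σ = (σ * σ) * y * (σ * σ) by group, hσσ, one_mul, mul_one]
    conv_lhs => rw [hy4]
    conv_rhs => rw [hy4]
    calc σ * z₀ * σ * (σ * y ^ 4 * σ) = σ * z₀ * (σ * σ) * y ^ 4 * σ := by group
      _ = σ * (z₀ * y ^ 4) * σ := by rw [hσσ, mul_one]; group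
      _ = σ * (y ^ 4 * z₀) * σ := by rw [((show Commute z₀ y from hz₀y).pow_right 4).eq]
      _ = σ * y ^ 4 * (σ * σ) * (z₀ * σ) := by rw [hσσ, mul_one]; group
      _ = _ := by group
  have hz₀z₀ : z₀ * z₀ = 1 := by rw [← pow_two, ← hz₀o]; exact pow_orderOf_eq_one _
  -- an involution commuting with `y` and `σ`
  obtain ⟨z, hzo, hzy, hzσ⟩ : ∃ z, orderOf z = 2 ∧ z * y = y * z ∧ z * σ = σ * z := by
    obtain ⟨q, hq⟩ : ∃ v, v = σ * z₀ * σ := ⟨_, rfl⟩
    have hqo : orderOf q = 2 := by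
      rw [hq, show σ * z₀ * σ = σ * z₀ * σ⁻¹ by rw [hσi], ← MulAut.conj_apply, MulEquiv.orderOf_eq, hz₀o]
    have hqq : q * q = 1 := by rw [← pow_two, ← hqo]; exact pow_orderOf_eq_one _
    rw [← hq] at hz₀σy
    obtain ⟨m, hm⟩ := odd_product F hyo hz₀o hqo hz₀y hz₀σy
    set d := z₀ * q with hd
    have hdd : d ^ (2 * m + 1) = 1 := hm ▸ pow_orderOf_eq_one d
    set r := d ^ (m + 1) with hr
    have hrr : r * r = d := by
      rw [hr, ← pow_add, show m + 1 + (m + 1) = 2 * m + 1 + 1 by ring, pow_succ, hdd, one_mul]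
    have hzd : z₀ * d * z₀⁻¹ = d⁻¹ := by
      rw [hd, mul_inv_rev, inv_eq_of_mul_eq_one_right hz₀z₀, inv_eq_of_mul_eq_one_right hqq,
        ← mul_assoc z₀ z₀ q, hz₀z₀, one_mul]
    have hsd : σ * d * σ⁻¹ = d⁻¹ := by
      rw [hd, mul_inv_rev, inv_eq_of_mul_eq_one_right hz₀z₀, inv_eq_of_mul_eq_one_right hqq, hσi, hq,
        show σ * (z₀ * (σ * z₀ * σ)) * σ = σ * z₀ * σ * z₀ * (σ * σ) by group, hσσ, mul_one]
    have hzr : z₀ * r * z₀⁻¹ = r⁻¹ := by rw [hr, ← conj_pow, hzd, inv_pow]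
    have hsr : σ * r * σ⁻¹ = r⁻¹ := by rw [hr, ← conj_pow, hsd, inv_pow]
    refine ⟨z₀ * r, orderOf_eq_prime ?_ (fun e => ?_), ?_, ?_⟩
    · rw [pow_two]
      calc z₀ * r * (z₀ * r) = z₀ * r * z₀⁻¹ * (z₀ * z₀) * r := by group
        _ = 1 := by rw [hzr, hz₀z₀]; group
    · -- `r` has odd order
      have hr' : r ^ (2 * m + 1) = 1 := by
        rw [hr, ← pow_mul, mul_comm, pow_mul, hdd, one_pow]
      have hez : r = z₀ := by
        rw [← inv_eq_of_mul_eq_one_right e]; exact inv_eq_of_mul_eq_one_right hz₀z₀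
      rw [hez, pow_succ, pow_mul, pow_two, hz₀z₀, one_pow, one_mul] at hr'
      rw [hr', orderOf_one] at hz₀o
      norm_num at hz₀o
    · have hdy : d * y = y * d := Commute.mul_left (show Commute z₀ y from hz₀y) hz₀σy
      exact Commute.mul_left (show Commute z₀ y from hz₀y) ((show Commute d y from hdy).pow_left _)
    · have hq' : σ * z₀ * σ⁻¹ = z₀ * d := by
        rw [hd, ← mul_assoc, hz₀z₀, one_mul, hq, hσi]
      have : σ * (z₀ * r) * σ⁻¹ = z₀ * r := by
        rw [show σ * (z₀ * r) * σ⁻¹ = σ * z₀ * σ⁻¹ * (σ * r * σ⁻¹) by group, hq', hsr, ← hrr]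
        group
      exact (mul_inv_eq_iff_eq_mul.mp this).symm
  have hzz : z * z = 1 := by rw [← pow_two, ← hzo]; exact pow_orderOf_eq_one _
  have hzi : z⁻¹ = z := inv_eq_of_mul_eq_one_right hzz
  have hxσ : x * σ = σ * x := (mul_inv_eq_iff_eq_mul.mp hσx).symm
  have hxy : x * y = y * x := by rw [hx, hy]; exact (Commute.pow_pow (Commute.refl t) 5 3).eq
  -- no element of order five commutes with `y` and `σ`
  have hno5 : ∀ c : G, c * y = y * c → c * σ = σ * c → c ^ 5 = 1 → c = 1 := by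
    intro c hcy hcσ hc5
    by_contra hc1
    have hco : orderOf c = 5 := orderOf_eq_prime hc5 hc1
    obtain ⟨S, hS⟩ := hzp y hyo
    have hcn : c ∈ zpowers y := by
      have hp : IsPGroup 5 ↥(zpowers y ⊔ zpowers c) := by
        refine IsPGroup.to_sup_of_normal_left' (IsPGroup.of_card (n := 1) ?_) (IsPGroup.of_card (n := 1) ?_) ?_
        · rw [Nat.card_zpowers, hyo, pow_one]
        · rw [Nat.card_zpowers, hco, pow_one]
        · intro k hk
          refine mem_normalizer_iff.mpr fun h => ?_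
          obtain ⟨n, rfl⟩ := mem_zpowers_iff.mp hk
          have hcomm : ∀ u ∈ zpowers y, c ^ n * u * (c ^ n)⁻¹ = u := fun u hu => by
            obtain ⟨l, rfl⟩ := mem_zpowers_iff.mp hu
            rw [mul_inv_eq_iff_eq_mul]
            exact ((show Commute c y from hcy).zpow_zpow n l).eq
          refine ⟨fun hh => (hcomm h hh).symm ▸ hh, fun hh => ?_⟩
          have := hcomm _ hh
          rw [mul_left_inj, mul_right_inj] at this
          exact this ▸ hh
      obtain ⟨T, hT⟩ := hp.exists_le_sylow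
      have hyT : zpowers y = (T : Subgroup G) := eq_of_le_of_card_ge (le_sup_left.trans hT)
        (by rw [hS5, Nat.card_zpowers, hyo])
      rw [hyT]
      exact hT (mem_sup_right (mem_zpowers c))
    have hyc : y ∈ zpowers c := by
      have : zpowers c = zpowers y := eq_of_le_of_card_ge (zpowers_le.mpr hcn)
        (by rw [Nat.card_zpowers, Nat.card_zpowers, hyo, hco])
      rw [this]; exact mem_zpowers y
    obtain ⟨n, hn⟩ := mem_zpowers_iff.mp hyc
    have hyσ : σ * y * σ⁻¹ = y := by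
      rw [← hn, mul_inv_eq_iff_eq_mul]; exact ((show Commute c σ from hcσ).zpow_left n).eq.symm
    rw [hσy] at hyσ
    have h3 : y ^ 3 = 1 := mul_eq_right.mp (show y ^ 3 * y = y by rw [← pow_succ]; exact hyσ)
    have := orderOf_dvd_iff_pow_eq_one.mpr h3
    rw [hyo] at this
    norm_num at this
  -- `z` inverts `x`
  have hzx : z * x * z = x⁻¹ := by
    have hxz : (x⁻¹ * z * x) * y = y * (x⁻¹ * z * x) :=
      Commute.mul_left (Commute.mul_left (Commute.inv_left (show Commute x y from hxy)) hzy) hxy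
    set d := z * (x⁻¹ * z * x) with hd
    have ho : orderOf (x⁻¹ * z * x) = 2 := by
      rw [show x⁻¹ * z * x = x⁻¹ * z * x⁻¹⁻¹ by group, ← MulAut.conj_apply, MulEquiv.orderOf_eq, hzo]
    have hodd := odd_product F hyo hzo ho hzy hxz
    have hdy : Commute d y := Commute.mul_left (show Commute z y from hzy) hxz
    have hdσ : Commute d σ := Commute.mul_left (show Commute z σ from hzσ)
      (Commute.mul_left (Commute.mul_left (Commute.inv_left (show Commute x σ from hxσ)) hzσ) hxσ)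
    have hd15 : orderOf d ∣ 15 := by
      have h1 := orderOf_dvd_natCard (⟨d, F'.mem_Cz.mpr (hF'.symm ▸ hdσ.eq)⟩ : F'.Cz)
      rw [Subgroup.orderOf_mk, F'.card_Cz, show (1920 : ℕ) = 2 ^ 7 * 15 from rfl] at h1
      exact (Nat.Coprime.pow_right 7 ((Nat.coprime_two_right).mpr hodd)).dvd_of_dvd_mul_left h1
    have hd3 : d ^ 3 = 1 := hno5 _ (hdy.pow_left 3).eq (hdσ.pow_left 3).eq
      (by rw [← pow_mul]; exact orderOf_dvd_iff_pow_eq_one.mp hd15)
    have hzd : z * d * z⁻¹ = d⁻¹ := by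
      rw [hd, mul_inv_rev, hzi, mul_inv_rev, mul_inv_rev, inv_inv, hzi, ← mul_assoc z z, hzz, one_mul]
      group
    set r := d ^ 2 with hr
    have hrr : r * r = d := by rw [hr, ← pow_add, show 2 + 2 = 3 + 1 from rfl, pow_succ, hd3, one_mul]
    have hzr : z * r * z⁻¹ = r⁻¹ := by rw [hr, ← conj_pow, hzd, inv_pow]
    set c := x * r⁻¹ with hc
    have hcy : Commute c y := Commute.mul_left hxy (hdy.pow_left 2).inv_left
    have hcσ : Commute c σ := Commute.mul_left hxσ (hdσ.pow_left 2).inv_left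
    have hxd : z * x * z = x * d⁻¹ := by
      rw [hd, mul_inv_rev, mul_inv_rev, mul_inv_rev, inv_inv, hzi]; group
    have hcz : c * z = z * c := by
      have : z * c * z⁻¹ = c := by
        rw [hc, show z * (x * r⁻¹) * z⁻¹ = z * x * z⁻¹ * (z * r * z⁻¹)⁻¹ by group, hzr, inv_inv, hzi, hxd, ← hrr]
        group
      exact (mul_inv_eq_iff_eq_mul.mp this).symm
    obtain ⟨h10, hinv⟩ := five_involution F hzo hyo hzy.symm hcz hcy.eq
    have hc2 : c * c = 1 := by
      rw [← pow_two]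
      exact hno5 _ (hcy.pow_left 2).eq (hcσ.pow_left 2).eq (by rw [← pow_mul]; exact h10)
    have hxr : x = r := by
      rcases hinv hc2 with e | e
      · exact mul_inv_eq_one.mp (hc ▸ e)
      · exfalso
        have e' : x = z * r := by rw [← e, hc]; group
        have h2 : x * x = 1 := by
          rw [e']
          calc z * r * (z * r) = z * r * z⁻¹ * (z * z) * r := by group
            _ = 1 := by rw [hzr, hzz]; group
        rw [pow_succ, pow_two, h2, one_mul] at hx3
        exact hx1 hx3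
    rw [hxr]
    conv_lhs => rw [show z * r * z = z * r * z⁻¹ by rw [hzi]]
    exact hzr
  -- the relation, inside the centraliser of `σ`
  have hP1 : P F 1 * σ = σ * P F 1 := by
    have := hσR 1 (by norm_num)
    rw [hM_facts.2.2.2.2.2.2.1 1 (by norm_num)] at this
    exact (mul_inv_eq_iff_eq_mul.mp this).symm
  obtain ⟨i, hi, hie⟩ := (F'.mem x).mp (hF'.symm ▸ hxσ)
  obtain ⟨a, ha, hae⟩ := (F'.mem (P F 1)).mp (hF'.symm ▸ hP1)
  obtain ⟨s, hs, hse⟩ := (F'.mem z).mp (hF'.symm ▸ hzσ)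
  have hlistI : ∀ {c : ℕ}, c < 1920 → F'.φ c * F'.φ c = 1 → F'.φ c ≠ 1 → c ∈ invList := by
    intro c hc h2 h1
    have h := List.all_eq_true.mp inv_list_check c (List.mem_range.mpr hc)
    rw [F'.inj (Code.mul_lt hc hc) (by norm_num) (j := 0) (by rw [F'.map_mul hc hc, h2, F'.map_zero])] at h
    simp only [Nat.beq_refl, cond_true, Bool.or_eq_true] at h
    rcases h with h | h
    · exact absurd (by rw [Nat.eq_of_beq_eq_true h, F'.map_zero]) h1
    · obtain ⟨j, hj, he⟩ := List.any_eq_true.mp h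
      exact Nat.eq_of_beq_eq_true he ▸ hj
  have hi3 : i ∈ threeList := by
    have h := List.all_eq_true.mp three_list_check i (List.mem_range.mpr hi)
    rw [F'.inj (Code.mul_lt (Code.mul_lt hi hi) hi) (by norm_num) (j := 0) (by
      rw [F'.map_mul (Code.mul_lt hi hi) hi, F'.map_mul hi hi, hie, F'.map_zero, ← hx3, pow_succ, pow_two])] at h
    simp only [Nat.beq_refl, cond_true, Bool.or_eq_true] at h
    rcases h with h | h
    · exact absurd (by rw [← hie, Nat.eq_of_beq_eq_true h, F'.map_zero]) hx1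
    · obtain ⟨j, hj, he⟩ := List.any_eq_true.mp h
      exact Nat.eq_of_beq_eq_true he ▸ hj
  have haI : a ∈ invList := hlistI ha (by rw [hae]; exact P_sq F (by norm_num))
    (by rw [hae]; intro e; have := P_inj F (x := 1) (y := 0) (by norm_num) (by norm_num) (e.trans (P_zero F).symm); omega)
  have hsI : s ∈ invList := hlistI hs (by rw [hse]; exact hzz)
    (by rw [hse]; intro e; rw [e, orderOf_one] at hzo; norm_num at hzo)
  set q := app (powM hM 5) 1 with hqdef
  obtain ⟨hq4, hq0, hq1⟩ := orbit_five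
  have hq16 : q < 16 := app_lt _ _
  have hq' : app (powM hM 5) q = Nat.xor 1 q := by decide +kernel
  have h1q : Nat.xor 1 q < 4 ∧ Nat.xor 1 q ≠ 0 := by decide +kernel
  have hcb : cj i a < 1920 := Code.mul_lt (Code.mul_lt hi ha) (inv_lt hi)
  have hb : F'.φ (cj i a) = P F q := by
    rw [cj, F'.conj_code hi ha, hie, hae, hx]; exact real_pow F htR 5 1 (by norm_num)
  have hab : F'.φ (Code.mul a (cj i a)) = P F (Nat.xor 1 q) := by
    rw [F'.map_mul ha hcb, hae, hb, P_xor F (by norm_num) hq16]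
  have hPσ : ∀ p < 16, P F p ≠ σ := fun p hp e => hM_facts.2.2.2.2.2.1 (code_ext (by rw [sM]; norm_num)
    (by rw [idM]; norm_num) fun e' he' => by
      have he16 : e' < 16 := by simp only [List.mem_cons, List.not_mem_nil, or_false] at he'; omega
      refine P_inj F (app_lt _ _) (app_lt _ _) ?_
      rw [← hσR e' he16, ← e, P_comm F hp he16, idM_app e' he16]
      group)
  have hne16 : ∀ {c : ℕ}, c < 1920 → ∀ p < 16, F'.φ c = P F p → Nat.beq c 16 = false := by
    intro c hc p hp e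
    by_contra h
    rw [Bool.not_eq_false] at h
    rw [Nat.eq_of_beq_eq_true h, F'.map_z, hF'] at e
    exact hPσ p hp e.symm
  have h := List.all_eq_true.mp (List.all_eq_true.mp rel_check i hi3) a haI
  simp only [relOK] at h
  rw [hne16 ha 1 (by norm_num) hae, hne16 hcb q hq16 hb,
    hne16 (Code.mul_lt ha hcb) _ (by omega) hab,
    F'.inj (Code.mul_lt hcb ha) (Code.mul_lt ha hcb) (by
      rw [F'.map_mul hcb ha, F'.map_mul ha hcb, hae, hb, P_comm F hq16 (by norm_num)]),
    show cj i (cj i a) = Code.mul a (cj i a) from F'.inj (Code.mul_lt (Code.mul_lt hi hcb) (inv_lt hi))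
      (Code.mul_lt ha hcb) (by
        rw [cj, F'.conj_code hi hcb, hie, hab]
        change x * F'.φ (cj i a) * x⁻¹ = _
        rw [hb, hx, real_pow F htR 5 q hq16, hq'])] at h
  simp only [Bool.not_false, Nat.beq_refl, Bool.and_true, cond_true] at h
  have h := List.all_eq_true.mp h s hsI
  rw [show cj s i = Code.inv i from F'.inj (Code.mul_lt (Code.mul_lt hs hi) (inv_lt hs)) (inv_lt hi) (by
    rw [cj, F'.conj_code hs hi, F'.map_inv hi, hse, hie, hzi, hzx])] at h
  simp only [Nat.beq_refl, cond_true, List.any_eq_true] at h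
  obtain ⟨j, hj, e, he, v, hv, h⟩ := h
  -- the three ingredients of `w`
  obtain ⟨k, hj1920, hje⟩ : ∃ k : ℕ, j < 1920 ∧ F'.φ j = x ^ k := by
    simp only [List.mem_cons, List.not_mem_nil, or_false] at hj
    rcases hj with rfl | rfl | rfl
    · exact ⟨0, by norm_num, by rw [F'.map_zero, pow_zero]⟩
    · exact ⟨1, hi, by rw [hie, pow_one]⟩
    · exact ⟨2, Code.mul_lt hi hi, by rw [F'.map_mul hi hi, hie, pow_two]⟩
  obtain ⟨he1920, hee⟩ : e < 1920 ∧ (F'.φ e = 1 ∨ F'.φ e = σ) := by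
    simp only [List.mem_cons, List.not_mem_nil, or_false] at he
    rcases he with rfl | rfl
    · exact ⟨by norm_num, Or.inl F'.map_zero⟩
    · exact ⟨by norm_num, Or.inr (F'.map_z.trans hF')⟩
  obtain ⟨p, hp4, hp0, hv1920, hve⟩ : ∃ p, p < 4 ∧ p ≠ 0 ∧ v < 1920 ∧ F'.φ v = P F p := by
    simp only [List.mem_cons, List.not_mem_nil, or_false] at hv
    rcases hv with rfl | rfl | rfl
    · exact ⟨1, by norm_num, by norm_num, ha, hae⟩
    · exact ⟨q, hq4, hq0, hcb, hb⟩
    · exact ⟨_, h1q.1, h1q.2, Code.mul_lt ha hcb, hab⟩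
  set ε := F'.φ e with hε
  set w := x ^ k * (ε * z) with hw
  have hεσ : Commute ε σ := by
    rcases hee with r | r <;> rw [r]
    exact Commute.one_left σ
  have hεx : ε * x ^ k = x ^ k * ε := by
    rcases hee with r | r <;> rw [r]
    · rw [one_mul, mul_one]
    · exact ((show Commute x σ from hxσ).pow_left k).eq.symm
  have hεz : ε * z = z * ε := by
    rcases hee with r | r <;> rw [r]
    · rw [one_mul, mul_one]
    · exact hzσ.symm
  have hεε : ε * ε = 1 := by
    rcases hee with r | r <;> rw [r]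
    · rw [one_mul]
    · exact hσσ
  have hwtt : w * t * w⁻¹ = t ^ 14 ∨ w * t * w⁻¹ = t ^ 11 := by
    have htz : z * t * z⁻¹ = t ^ 11 := by
      have htxy : t = x ^ 2 * y ^ 2 := by
        rw [hx, hy, ← pow_mul, ← pow_mul, ← pow_add, show 5 * 2 + 3 * 2 = 15 + 1 from rfl, pow_succ, ht15,
          one_mul]
      conv_lhs => rw [htxy]
      rw [show z * (x ^ 2 * y ^ 2) * z⁻¹ = (z * x ^ 2 * z⁻¹) * (z * y ^ 2 * z⁻¹) by group, ← conj_pow,
        ← conj_pow, mul_inv_eq_iff_eq_mul.mpr hzy, hzi, hzx,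
        show x⁻¹ = x ^ 2 from inv_eq_of_mul_eq_one_right (by rw [← pow_succ']; exact hx3), ← pow_mul, hx, hy,
        ← pow_mul, ← pow_mul, ← pow_add, show 5 * (2 * 2) + 3 * 2 = 15 + 11 from rfl, pow_add, ht15, one_mul]
    have hxk : ∀ n : ℕ, x ^ k * t ^ n * (x ^ k)⁻¹ = t ^ n := fun n => by
      rw [mul_inv_eq_iff_eq_mul, hx, ← pow_mul, ← pow_add, ← pow_add, add_comm]
    rw [hw, show x ^ k * (ε * z) * t * (x ^ k * (ε * z))⁻¹ =
      x ^ k * (ε * (z * t * z⁻¹) * ε⁻¹) * (x ^ k)⁻¹ by group, htz]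
    rcases hee with r | r <;> rw [r]
    · right; rw [one_mul, inv_one, mul_one]; exact hxk 11
    · left
      rw [← conj_pow, hσt, ← pow_mul, show 4 * 11 = 15 * 2 + 14 from rfl, pow_add, pow_mul, ht15, one_pow,
        one_mul]
      exact hxk 14
  have hzxk : z * x ^ k * z⁻¹ = (x ^ k)⁻¹ := by rw [← conj_pow, hzi, hzx, inv_pow]
  have hww : w * w = 1 := by
    rw [hw]
    calc x ^ k * (ε * z) * (x ^ k * (ε * z))
        = x ^ k * (ε * (z * x ^ k * z⁻¹) * (z * ε)) * z := by group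
      _ = x ^ k * (ε * (x ^ k)⁻¹ * (ε * z)) * z := by rw [hzxk, hεz]
      _ = x ^ k * (ε * (x ^ k)⁻¹ * ε) * (z * z) := by group
      _ = x ^ k * ((x ^ k)⁻¹ * ε * ε) := by
        rw [hzz, mul_one, (show Commute ε (x ^ k) from hεx).inv_right.eq]
      _ = 1 := by rw [mul_assoc (x ^ k)⁻¹, hεε]; group
  have hwi : w⁻¹ = w := inv_eq_of_mul_eq_one_right hww
  have hwσ : σ * w = w * σ :=
    (Commute.mul_left ((show Commute x σ from hxσ).pow_left k) (hεσ.mul_left hzσ)).eq.symm
  refine ⟨t, σ, w, p, hp4, hp0, htR, hσR, ht15, hσσ, hσ1, hσt, hww, hwσ, ?_, ?_⟩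
  · rwa [hwi] at hwtt
  have hm1 := Code.mul_lt hj1920 (Code.mul_lt he1920 hs)
  have hm2 := Code.mul_lt hv1920 hm1
  have hmv := congrArg F'.φ (Nat.eq_of_beq_eq_true h)
  rw [F'.map_mul (Code.mul_lt hm2 hm2) hm2, F'.map_mul hm2 hm2, F'.map_mul hv1920 hm1,
    F'.map_mul hj1920 (Code.mul_lt he1920 hs), F'.map_mul he1920 hs, F'.map_zero, hje, hve, hse] at hmv
  rw [pow_succ, pow_two]
  exact hmv

end Cfsg.Agent.H52.JThree.Sixteen
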