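import Cfsg.Agent.H52.JThree.L16.Local
import Cfsg.Agent.H52.JThree.L16.Line
import Cfsg.Agent.H52.JThree.L16.Field

/-!
A group of J₃ type contains `SL(2, 16)` extended by an involution.
-/

set_option autoImplicit false
set_option maxRecDepth 10000
set_option linter.style.haveILetI false
set_option linter.unusedSectionVars false

namespace Cfsg.Agent.H52.JThree.Sixteen

open Subgroup OnePoint

variable {G : Type*} [Group G]

theorem orbM_surj : ∀ p < 4, p ≠ 0 → ∀ x < 16, ∃ a : K16, app (orbM p) (a.val : ℕ) = x := by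
  decide +kernel

/-- The line of a relation found in the centraliser of the field automorphism. -/
theorem exists_line (F : Frame G) {t w : G} {p s : ℕ} (hp : p < 4) (hp0 : p ≠ 0) (ht : Real F hM t)
    (ht15 : t ^ 15 = 1) (hw : w * w = 1) (hs : K16.pw s ≠ K16.pw 1) (hwt : w * t * w = t ^ s)
    (hrel : (P F p * w) ^ 3 = 1) :
    ∃ L : Line G K16, L.t = t ∧ L.w = w ∧ L.s = s ∧ L.α = K16.root ∧
      (∀ a, L.u a = P F (app (orbM p) (a.val : ℕ))) := by
  obtain ⟨h1, hA, hX, hI⟩ := orbM_facts p hp hp0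
  obtain ⟨r15, rmin, rcov, rtwo⟩ := K16.root_facts
  refine ⟨{
    u := fun a => P F (app (orbM p) (a.val : ℕ))
    t := t
    w := w
    α := K16.root
    n := 15
    s := s
    two := rtwo
    u_add := fun a b => by
      rw [K16.val_add, hX _ a.val.2 _ b.val.2, P_xor F (app_lt _ _) (app_lt _ _)]
    u_inj := fun a b h => by
      have := hI _ a.val.2 _ b.val.2 (P_inj F (app_lt _ _) (app_lt _ _) h)
      exact K16.equiv.injective (Fin.ext this)
    t_pow := ht15
    α_cover := fun a ha => by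
      obtain ⟨j, -, hj⟩ := rcov a ha
      exact ⟨j, by rw [K16.pow_eq_pw, hj]⟩
    α_ne := by
      rw [K16.pow_eq_pw]
      refine fun h => hs (h.trans ?_)
      rw [← K16.pow_eq_pw, pow_one]
    n_pos := by norm_num
    α_ord := fun j hj => by
      refine Nat.dvd_of_mod_eq_zero ?_
      by_contra hne
      refine rmin (j % 15) (Nat.mod_lt _ (by norm_num)) (Nat.pos_of_ne_zero hne) ?_
      rw [← K16.pow_eq_pw, ← hj]
      conv_rhs => rw [← Nat.div_add_mod j 15, pow_add, pow_mul, K16.pow_eq_pw 15, r15, one_pow, one_mul]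
    tu := fun a => by
      rw [ht _ (app_lt _ _), ← hA _ a.val.2, K16.mA_root]
    ww := hw
    wt := hwt
    rel := by
      rw [show ((1 : K16).val : ℕ) = 1 from rfl, h1]
      exact hrel }, rfl, rfl, rfl, rfl, fun a => rfl⟩

theorem eleven_false : K16.pw 11 ≠ K16.pw 1 ∧ K16.pw 14 ≠ K16.pw 1 ∧
    (∀ a : K16, a ≠ 0 → a * K16.pw 14 ≠ 0) ∧
    ((K16.root + 1).val ≠ 0) := by decide +kernel

/-- The eleventh power, by multiplication. -/
def p11 (a : K16) : K16 :=
  let a2 := a * a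
  let a4 := a2 * a2
  a4 * a4 * a2 * a

theorem p11_eq (a : K16) : a ^ 11 = p11 a := by simp only [p11]; ring

theorem p11_check : K16.root + 1 ≠ 0 ∧ p11 (K16.root + 1) + 1 ≠ 0 ∧
    p11 (p11 (K16.root + 1) + 1) + 1 ≠ 0 ∧
    p11 (p11 (p11 (K16.root + 1) + 1) + 1) ≠ K16.root := by decide +kernel

theorem fourteen_inv {a : K16} (ha : a ≠ 0) : a ^ 14 = a⁻¹ := by
  refine eq_inv_of_mul_eq_one_right ?_
  have key : ∀ a : K16, a ≠ 0 →
      (let a2 := a * a; let a4 := a2 * a2; a * (a4 * a4 * a4 * a2)) = 1 := by decide +kernel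
  rw [← key a ha]
  ring

theorem no_eleven (L : Line G K16) (hs : L.s = 11) : False := by
  obtain ⟨c0, c1, c2, c3⟩ := p11_check
  have hz : ∀ x : OnePoint K16, (L.w * L.u 1) ^ 3 • L.pt x = L.pt x := fun x => by
    have h : (L.w * L.u 1) ^ 3 = L.w * (L.u 1 * L.w) ^ 3 * L.w⁻¹ := by
      rw [← conj_pow]; group
    rw [h, L.rel, mul_one, mul_inv_cancel, one_smul]
  have step : ∀ a : K16, a + 1 ≠ 0 → (L.w * L.u 1) • L.pt a = L.pt (p11 (a + 1) : K16) := fun a ha => by
    rw [mul_smul, L.u_pt, add_comm, L.w_pt ha, hs, p11_eq]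
  have h := hz (K16.root : K16)
  rw [pow_succ, pow_two, mul_smul, mul_smul, step _ c0, step _ c1, step _ c2] at h
  exact c3 (OnePoint.coe_injective (L.pt_inj h))

/-- The subgroups. -/
theorem exists_extension [Finite G] (F : Frame G) (hG : Nat.card G = 50232960) :
    ∃ (H : Subgroup G) (N : Subgroup H), N.Normal ∧ N.index = 2 ∧
      Nonempty (N ≃* Matrix.SpecialLinearGroup (Fin 2) K16) := by
  classical
  obtain ⟨t, σ, w, p, hp, hp0, ht, hσ, ht15, hσσ, hσ1, hσt, hww, hσw, hwt, hrel⟩ := exists_local F hG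
  obtain ⟨f11, f14, -, -⟩ := eleven_false
  rcases hwt with hwt | hwt
  swap
  · obtain ⟨L, -, -, hs, -⟩ := exists_line F hp hp0 ht ht15 hww f11 hwt hrel
    exact (no_eleven L hs).elim
  obtain ⟨L, hLt, hLw, hs, hα, hu⟩ := exists_line F hp hp0 ht ht15 hww f14 hwt hrel
  have hinv : ∀ a : K16, a ≠ 0 → a ^ L.s = a⁻¹ := fun a ha => by rw [hs]; exact fourteen_inv ha
  have hσi : σ⁻¹ = σ := inv_eq_of_mul_eq_one_right hσσ
  have hσu : ∀ a, ∃ b, σ * L.u a * σ⁻¹ = L.u b := fun a => by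
    obtain ⟨b, hb⟩ := orbM_surj p hp hp0 _ (app_lt sM (app (orbM p) (a.val : ℕ)))
    exact ⟨b, by rw [hu, hu, hσ _ (app_lt _ _), hb]⟩
  have hmap : ∀ g ∈ L.grp, σ * g * σ⁻¹ ∈ L.grp := by
    intro g hg
    induction hg using closure_induction with
    | mem g hg =>
      rcases hg with ⟨a, rfl⟩ | rfl
      · obtain ⟨b, hb⟩ := hσu a
        rw [hb]; exact L.u_grp b
      · rw [hLw, hσw, mul_inv_cancel_right, ← hLw]; exact L.w_grp
    | one => simp
    | mul g g' _ _ h h' =>
      rw [show σ * (g * g') * σ⁻¹ = σ * g * σ⁻¹ * (σ * g' * σ⁻¹) by group]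
      exact mul_mem h h'
    | inv g _ h =>
      rw [show σ * g⁻¹ * σ⁻¹ = (σ * g * σ⁻¹)⁻¹ by group]
      exact inv_mem h
  have hnot : σ ∉ L.grp := by
    intro hmem
    obtain ⟨A, hA⟩ := L.acts_exists_mat hinv hmem
    -- `σ` fixes the point at infinity
    have hB : σ ∈ L.B := by
      have h1 : (QuotientGroup.mk (σ * 1) : G ⧸ L.B) = L.pt (Matrix.SpecialLinearGroup.toGL A • ∞) :=
        (L.mk_smul σ 1).symm.trans (hA ∞)
      cases hx : (Matrix.SpecialLinearGroup.toGL A • (∞ : OnePoint K16)) with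
      | infty =>
        rw [hx] at h1
        have h2 : (σ * 1)⁻¹ * 1 ∈ L.B := QuotientGroup.eq.mp h1
        rwa [mul_one, mul_one, inv_mem_iff] at h2
      | coe a =>
        exfalso
        rw [hx] at h1
        have h2 : (L.u a * L.w)⁻¹ * (σ * 1) ∈ L.B := QuotientGroup.eq.mp h1.symm
        obtain ⟨b, j, hbj⟩ := h2
        have hσe : σ = L.u a * L.w * (L.u b * L.t ^ j) := by rw [← hbj]; group
        -- hence `w` normalises the image of `u`
        obtain ⟨e, he⟩ : ∃ e, σ * L.u ((L.α ^ j)⁻¹) * σ⁻¹ = L.u e := hσu _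
        rw [hσe, show L.u a * L.w * (L.u b * L.t ^ j) * L.u ((L.α ^ j)⁻¹) *
          (L.u a * L.w * (L.u b * L.t ^ j))⁻¹ =
          L.u a * (L.w * (L.u b * (L.t ^ j * L.u ((L.α ^ j)⁻¹) * (L.t ^ j)⁻¹) * (L.u b)⁻¹) * L.w⁻¹) *
            (L.u a)⁻¹ by group, L.tu_pow, mul_inv_cancel₀ (pow_ne_zero j L.α_ne_zero), L.u_inv,
          ← L.u_add, ← L.u_add, L.w_inv, add_comm b 1, add_assoc, L.two, add_zero, L.u_inv] at he
        have he' : L.w * L.u 1 * L.w ∈ L.B := by
          have h3 : L.w * L.u 1 * L.w = (L.u a)⁻¹ * L.u e * L.u a := by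
            rw [L.u_inv, ← he, show L.u a * (L.u a * (L.w * L.u 1 * L.w) * L.u a) * L.u a =
              (L.u a * L.u a) * (L.w * L.u 1 * L.w) * (L.u a * L.u a) by group, L.u_sq, one_mul, mul_one]
          rw [h3]
          exact mul_mem (mul_mem (inv_mem (L.u_mem a)) (L.u_mem e)) (L.u_mem a)
        obtain ⟨c, hc, hce⟩ := L.wuw (one_ne_zero (α := K16))
        rw [hce, L.B.mul_mem_cancel_right hc] at he'
        exact L.w_notMem ((L.B.mul_mem_cancel_left (L.u_mem _)).mp he')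
    obtain ⟨b, j, hbj⟩ := hB
    have h4 : t ^ 4 = L.u b * t * (L.u b)⁻¹ := by
      rw [← hσt, hbj, ← hLt]; group
    have h3 : L.t ^ 3 = L.u (b + L.α * b) := by
      have e : t ^ 3 = t ^ 4 * t⁻¹ := by group
      rw [hLt, e, h4, L.u_inv, L.u_add, ← L.tu, hLt]
      group
    have := L.pow_eq_u h3
    rw [hα, K16.pow_eq_pw] at this
    exact K16.root_facts.2.1 3 (by norm_num) (by norm_num) this
  set H := L.grp ⊔ zpowers σ with hH
  set N := L.grp.subgroupOf H with hN
  have hσH : σ ∈ H := mem_sup_right (mem_zpowers σ)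
  let K0 : Subgroup G := {
    carrier := {g | g ∈ L.grp ∨ g * σ ∈ L.grp}
    one_mem' := Or.inl (one_mem _)
    mul_mem' := by
      rintro g g' (hg | hg) (hg' | hg')
      · exact Or.inl (mul_mem hg hg')
      · exact Or.inr (by rw [mul_assoc]; exact mul_mem hg hg')
      · right
        rw [show g * g' * σ = g * σ * (σ⁻¹ * g' * σ) by group]
        have := hmap _ hg'
        exact mul_mem hg (by rwa [hσi] at this ⊢)
      · left
        rw [show g * g' = g * σ * (σ⁻¹ * (g' * σ) * σ⁻¹) by group]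
        have := hmap _ hg'
        exact mul_mem hg (by rwa [hσi] at this ⊢)
    inv_mem' := by
      rintro g (hg | hg)
      · exact Or.inl (inv_mem hg)
      · right
        show g⁻¹ * σ ∈ L.grp
        rw [show g⁻¹ * σ = σ * (g * σ)⁻¹ * σ by group]
        have := hmap _ (inv_mem hg)
        rwa [hσi] at this }
  have hle : H ≤ K0 := sup_le (fun g hg => Or.inl hg) (zpowers_le.mpr (Or.inr (by rw [hσσ]; exact one_mem _)))
  have hidx : N.index = 2 := by
    refine index_eq_two_iff.mpr ⟨⟨σ, hσH⟩, fun b => ?_⟩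
    simp only [hN, mem_subgroupOf, Subgroup.coe_mul]
    rcases hle b.2 with hb | hb
    · exact Or.inr ⟨hb, fun h => hnot ((L.grp.mul_mem_cancel_left hb).mp h)⟩
    · exact Or.inl ⟨hb, fun h => hnot ((L.grp.mul_mem_cancel_left h).mp hb)⟩
  obtain ⟨e⟩ := L.iso hinv
  exact ⟨H, N, normal_of_index_eq_two hidx, hidx, ⟨(subgroupOfEquivOfLe le_sup_left).trans e⟩⟩

end Cfsg.Agent.H52.JThree.Sixteen
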